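import Cfsg.Agent.Lib.Lie.TD4Cover.Weyl

/-!
# Every element of `³D₄(q)` outside the parabolic subgroup is conjugate to `v l u` with `l` of determinant one

The predicate `Cov` on matrices of determinant one stands for being covered.
-/

set_option autoImplicit false
set_option maxRecDepth 100000
set_option linter.unusedSectionVars false

namespace CfsgLib.Lie.TD4Cover

open Matrix Cfsg.Lie CfsgLib.Lie.Chev CfsgLib.Lie.SL2Rel
open CfsgLib.Lie.Mult.TD4Coord (X X_eq X_zero merge_last swap_zero)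
open CfsgLib.Lie.Mult.TD4Rel
open TD4 (C rt nd)
open scoped MatrixGroups commutatorElement

variable {K : Type*} [Field K] (θ : K ≃+* K)

local notation "G" => GL chevD4.Idx K

/-! ### Commutations -/

theorem hB_commute {r : ℕ} (hr : r = 23 ∨ r = 0) (S : Matrix.SpecialLinearGroup (Fin 2) K) (t : K) :
    Commute (hB θ S) (X r t : G) := by
  obtain ⟨n1, n2, n3, -⟩ := TD4.negr_rt
  have hall : ∀ a ∈ [18, 13, 12, 5, 10, 11], ∀ b ∈ [23, 0],
      b ≠ a ∧ b ≠ chevD4.neg a ∧ chevD4.commTerms a b = [] := by decide +kernel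
  have hb : r ∈ [23, 0] := by simpa using hr
  have hlt : r < chevD4.nroots := by rcases hr with rfl | rfl <;> decide +kernel
  have c : ∀ a ∈ [18, 13, 12, 5, 10, 11], a < chevD4.nroots → ∀ u : K, Commute (X a u : G) (X r t) :=
    fun a ha ha' u => commute_X (hall a ha r hb) ha' hlt u t
  show Commute (rH (rt 18) S * rH (rt 13) (sMap θ S) * rH (rt 12) (sMap θ (sMap θ S))) _
  refine ((commute_rH (fun u => ⟨?_, ?_⟩) _).mul_left (commute_rH (fun u => ⟨?_, ?_⟩) _)).mul_left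
    (commute_rH (fun u => ⟨?_, ?_⟩) _)
  · rw [X_rt]; exact c 18 (by simp) (by decide +kernel) u
  · rw [n1, X_rt]; exact c 5 (by simp) (by decide +kernel) u
  · rw [X_rt]; exact c 13 (by simp) (by decide +kernel) u
  · rw [n2, X_rt]; exact c 10 (by simp) (by decide +kernel) u
  · rw [X_rt]; exact c 12 (by simp) (by decide +kernel) u
  · rw [n3, X_rt]; exact c 11 (by simp) (by decide +kernel) u

variable (h3 : ∀ t : K, θ (θ (θ t)) = t) {q : ℕ} (hθ : ∀ x, θ x = x ^ q)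

include h3 hθ

theorem n9_gl (S : Matrix.SpecialLinearGroup (Fin 2) (Fx θ)) : Commute (n9 θ) (gl θ S) := by
  have hm := (mon_hh θ h3 hθ).inv θ
  have key : ∀ r ∈ [14, 9], ∀ t : K, Commute (n9 θ) (X r t : G) := by
    intro r hr t
    have hr' : r < chevD4.nroots := by simp at hr; rcases hr with rfl | rfl <;> decide +kernel
    obtain ⟨s, hs, hs'⟩ : ∃ s, (s = 23 ∨ s = 0) ∧ img (s7 ++ s6).reverse r = s := by
      simp at hr
      rcases hr with rfl | rfl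
      · exact ⟨23, Or.inl rfl, by decide +kernel⟩
      · exact ⟨0, Or.inr rfl, by decide +kernel⟩
    obtain ⟨k, hk⟩ := conj_X hm.2.2 hr' hs'
    have hc := hB_commute θ hs (nS K) ((k : K) * t)
    rw [← hk t] at hc
    show n9 θ * X r t = X r t * n9 θ
    rw [n9]
    calc hh θ * n7 θ * (hh θ)⁻¹ * X r t
        = hh θ * (hB θ (nS K) * ((hh θ)⁻¹ * X r t * (hh θ)⁻¹⁻¹)) * (hh θ)⁻¹ := by rw [n7]; group
      _ = hh θ * (((hh θ)⁻¹ * X r t * (hh θ)⁻¹⁻¹) * hB θ (nS K)) * (hh θ)⁻¹ := by rw [hc.eq]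
      _ = _ := by rw [n7]; group
  have hu : ∀ t, Commute (n9 θ) (gl θ (Fam.upper t)) := fun t => by
    rw [gl_upper]; exact key 14 (by simp) _
  refine gl_induction θ (P := fun S => Commute (n9 θ) (gl θ S)) (fun a b ha hb => ?_) hu ?_ S
  · rw [map_mul]; exact ha.mul_right hb
  · rw [nS_eq, map_mul, map_mul]
    refine ((hu _).mul_right ?_).mul_right (hu _)
    rw [gl_lower]; exact key 9 (by simp) _

theorem gl_conj_VN (S : Matrix.SpecialLinearGroup (Fin 2) (Fx θ)) {v : G} (hv : v ∈ VN θ h3) :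
    gl θ S * v * (gl θ S)⁻¹ ∈ VN θ h3 := by
  rw [mem_VN] at hv ⊢
  have h := lv_conj_UP θ h3 (ofS θ S) hv
  rw [lv_ofS] at h
  have hc := (n9_gl θ h3 hθ S).eq
  have hci := ((n9_gl θ h3 hθ S).inv_left).eq
  convert h using 1
  calc (n9 θ)⁻¹ * (gl θ S * v * (gl θ S)⁻¹) * n9 θ
      = ((n9 θ)⁻¹ * gl θ S) * v * ((gl θ S)⁻¹ * n9 θ) := by group
    _ = _ := by rw [hci, show (gl θ S)⁻¹ * n9 θ = n9 θ * (gl θ S)⁻¹ from
                  ((n9_gl θ h3 hθ S).inv_right).eq.symm]; group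

/-! ### Memberships -/

theorem negB_eq (y : K) : negB θ y = n7 θ * rootB θ (-y) * (n7 θ)⁻¹ := by
  rw [← hB_lower, ← hB_upper, n7, eq_mul_inv_iff_mul_eq, ← map_mul, ← map_mul]
  congr 1
  refine Subtype.ext ?_
  simp only [Matrix.SpecialLinearGroup.coe_mul]
  ext i j
  fin_cases i <;> fin_cases j <;> simp [nS, Fam.upper, Fam.lower, Matrix.mul_apply, Fin.sum_univ_two]

theorem negB_mem_VN (y : K) : negB θ y ∈ VN θ h3 := by
  rw [mem_VN, negB_eq θ h3 hθ]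
  obtain ⟨z, hz⟩ := conj_B_C θ h3 (((mon_n9 θ h3 hθ).inv θ).mul θ (mon_n7 θ h3 hθ))
    (by decide +kernel) (-y)
  rw [show (n9 θ)⁻¹ * (n7 θ * rootB θ (-y) * (n7 θ)⁻¹) * n9 θ =
    (n9 θ)⁻¹ * n7 θ * rootB θ (-y) * ((n9 θ)⁻¹ * n7 θ)⁻¹ by group, hz]
  exact rootC_mem_UP θ h3 z

theorem lv_eq_gl {x : ↥(Lgp θ)} (h : x.1.2 = 1) : ∃ S, lv θ x = gl θ S ∧ S.1 = x.1.1.1 := by
  have hd : x.1.1.1.det = 1 := Subtype.ext (by rw [x.2, h]; simp [N])
  refine ⟨⟨x.1.1.1, hd⟩, ?_, rfl⟩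
  refine (congrArg (lv θ) ?_).trans (lv_ofS θ _)
  exact Subtype.ext (Prod.ext (Units.ext rfl) h)

/-- a monomial element followed by the Levi subgroup can be reached -/
def Reach (n : G) : Prop :=
  ∀ x : ↥(Lgp θ), ∃ a ∈ twistedD4 K q, a ∈ UP θ h3 ∧ ∃ v ∈ VN θ h3, ∃ S, ∃ u ∈ UP θ h3,
    a * n * lv θ x = v * gl θ S * u

theorem UP_le : UP θ h3 ≤ twistedD4 K q := by
  rintro g ⟨r, c, v, ⟨d, w, ⟨e, f, he, hf, rfl⟩, rfl⟩, rfl⟩
  refine mul_mem (mul_mem (rootB_mem θ h3 hθ r) (rootC_mem θ h3 hθ c)) (mul_mem (rootD_mem θ h3 hθ d)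
    (mul_mem ?_ ?_))
  · exact (Mult.TD4Data.mem_iff θ hθ h3).2 (fix_single θ (by norm_num) (by simp) he)
  · exact (Mult.TD4Data.mem_iff θ hθ h3).2 (fix_single θ (by norm_num) (by simp) hf)

theorem key7 (m : Kˣ) : rootB θ (-(m : K)) * n7 θ =
    negB θ (-((m⁻¹ : Kˣ) : K)) * T θ m * rootB θ ((m⁻¹ : Kˣ) : K) := by
  rw [← hB_upper, ← hB_lower, ← hB_upper, ← hB_dS, n7, ← map_mul, ← map_mul, ← map_mul]
  congr 1
  refine Subtype.ext ?_
  simp only [Matrix.SpecialLinearGroup.coe_mul]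
  have := m.ne_zero
  ext i j
  fin_cases i <;> fin_cases j <;> simp [nS, dS, Fam.upper, Fam.lower, Matrix.mul_apply, Fin.sum_univ_two]

theorem reach7 : Reach (q := q) θ h3 (n7 θ) := by
  intro x
  set m : Kˣ := x.1.2 with hm
  obtain ⟨w, hw, e⟩ := UP_mul_lv θ h3 (rootB_mem_UP θ h3 ((m⁻¹ : Kˣ) : K)) x
  obtain ⟨S, hS, -⟩ := lv_eq_gl θ h3 hθ (x := tEl θ h3 m * x) (by
    show m⁻¹ * x.1.2 = 1
    rw [hm, inv_mul_cancel])
  refine ⟨_, rootB_mem θ h3 hθ (-(m : K)), rootB_mem_UP θ h3 _, _, negB_mem_VN θ h3 hθ (-((m⁻¹ : Kˣ) : K)),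
    S, w, hw, ?_⟩
  calc rootB θ (-(m : K)) * n7 θ * lv θ x
      = negB θ (-((m⁻¹ : Kˣ) : K)) * T θ m * (rootB θ ((m⁻¹ : Kˣ) : K) * lv θ x) := by
        rw [key7 θ h3 hθ]; group
    _ = _ := by rw [e, ← hS, map_mul, lv_tEl]; group

theorem key6 (k : (Fx θ)ˣ) : gl θ (Fam.lower (k : Fx θ)) * n6 θ =
    gl θ (Fam.upper ((k⁻¹ : (Fx θ)ˣ) : Fx θ)) * gl θ (dS k⁻¹) * gl θ (Fam.lower (-((k⁻¹ : (Fx θ)ˣ) : Fx θ))) := by
  rw [n6, ← map_mul, ← map_mul, ← map_mul]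
  congr 1
  refine Subtype.ext ?_
  simp only [Matrix.SpecialLinearGroup.coe_mul]
  have := k.ne_zero
  ext i j
  fin_cases i <;> fin_cases j <;> simp [nS, dS, Fam.upper, Fam.lower, Matrix.mul_apply, Fin.sum_univ_two]

theorem lower_as (t : Fx θ) : gl θ (Fam.lower t) = n6 θ * X 14 ((-t : Fx θ) : K) * (n6 θ)⁻¹ := by
  rw [← gl_upper, n6, eq_mul_inv_iff_mul_eq, ← map_mul, ← map_mul]
  congr 1
  refine Subtype.ext ?_
  simp only [Matrix.SpecialLinearGroup.coe_mul]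
  ext i j
  fin_cases i <;> fin_cases j <;> simp [nS, Fam.upper, Fam.lower, Matrix.mul_apply, Fin.sum_univ_two]

theorem negB_split (s y : K) (p : Kˣ) (hp : (p : K) = 1 + s * y) :
    rootB θ s * negB θ y = negB θ (y / p) * T θ p * rootB θ (s / p) := by
  rw [← hB_upper, ← hB_lower, ← hB_upper, ← hB_lower, ← hB_dS, ← map_mul, ← map_mul, ← map_mul]
  congr 1
  refine Subtype.ext ?_
  simp only [Matrix.SpecialLinearGroup.coe_mul]
  have := p.ne_zero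
  ext i j
  fin_cases i <;> fin_cases j <;> simp [dS, Fam.upper, Fam.lower, Matrix.mul_apply, Fin.sum_univ_two]
  all_goals field_simp
  all_goals first
    | linear_combination hp
    | linear_combination -hp
    | ring

theorem reach10 : Reach (q := q) θ h3 (n10 θ) := by
  intro x
  have hhm := mon_hh θ h3 hθ
  have h14 : θ (1 : K) = 1 := map_one θ
  have hm1 : θ (-1 : K) = -1 := by rw [map_neg, map_one]
  -- the element of the long root
  obtain ⟨t0, ht0, -, ea0⟩ := conj_single θ h3 (hhm.mul θ (mon_n6 θ h3 hθ)) (r := 14) (s := 22)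
    (by simp) (by simp) (by decide +kernel) hm1
  obtain ⟨t1, ht1, -, ee⟩ := conj_single θ h3 (hhm.mul θ (mon_n6 θ h3 hθ)) (r := 14) (s := 22)
    (by simp) (by simp) (by decide +kernel) h14
  set a0 : G := hh θ * gl θ (Fam.lower 1) * (hh θ)⁻¹ with ha0
  have ha0' : a0 = X 22 t0 := by
    rw [ha0, lower_as θ h3 hθ, ← ea0]
    simp only [NegMemClass.coe_neg, OneMemClass.coe_one]
    group
  have he' : hh θ * gl θ (Fam.lower (-1)) * (hh θ)⁻¹ = X 22 t1 := by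
    rw [lower_as θ h3 hθ, ← ee]
    simp only [neg_neg, OneMemClass.coe_one]
    group
  set v1 : G := hh θ * X 14 (1 : K) * (hh θ)⁻¹ with hv1
  have hv1V : v1 ∈ VN θ h3 := by
    obtain ⟨t, ht, -, e⟩ := conj_single θ h3 (((mon_n9 θ h3 hθ).inv θ).mul θ hhm) (r := 14) (s := 23)
      (by simp) (by simp) (by decide +kernel) h14
    rw [mem_VN, hv1, show (n9 θ)⁻¹ * (hh θ * X 14 (1 : K) * (hh θ)⁻¹) * n9 θ =
      (n9 θ)⁻¹ * hh θ * X 14 (1 : K) * ((n9 θ)⁻¹ * hh θ)⁻¹ by group, e]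
    exact X23_mem_UP θ h3 ht
  have key : a0 * n10 θ = v1 * X 22 t1 := by
    have h6 := key6 θ h3 hθ 1
    rw [inv_one, Units.val_one, show dS (1 : (Fx θ)ˣ) = 1 from Subtype.ext (by
      ext i j; fin_cases i <;> fin_cases j <;> simp [dS]), map_one, mul_one, gl_upper] at h6
    rw [ha0, n10, hv1, ← he', show hh θ * gl θ (Fam.lower 1) * (hh θ)⁻¹ * (hh θ * n6 θ * (hh θ)⁻¹) =
      hh θ * (gl θ (Fam.lower 1) * n6 θ) * (hh θ)⁻¹ by group, h6]
    simp only [OneMemClass.coe_one]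
    group
  -- the short root element
  set aD : G := hh θ * rootB θ 1 * (hh θ)⁻¹ with haD
  have haD' : aD ∈ UP θ h3 := by
    obtain ⟨z, hz⟩ := conj_B_D θ h3 hhm (by decide +kernel) 1
    rw [haD, hz]; exact rootD_mem_UP θ h3 z
  obtain ⟨rest, d, e, f, he, hf, hrest, hAB⟩ : ∃ rest : G, ∃ d e f : K, θ e = e ∧ θ f = f ∧
      rest = rootD θ d * X 22 e * X 23 f ∧
      rootB θ 1 * X 14 (1 : K) = X 14 (1 : K) * (rootC θ (-1) * rest * rootB θ 1) := by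
    have h := conj_of_comm (rAB θ h3 (-1) 1 hm1)
    rw [← X_inv, inv_inv, mul_one (-1 : K)] at h
    refine ⟨_, -1 * (1 * θ 1), -1 * (1 * θ 1 * θ (θ 1)), -(-1 * -1 * (1 * θ 1 * θ (θ 1))), by simp, by simp, rfl, ?_⟩
    calc rootB θ 1 * X 14 (1 : K) = X 14 (1 : K) * ((X 14 (1 : K))⁻¹ * rootB θ 1 * X 14 (1 : K)) := by group
      _ = _ := by rw [h]; simp only [mul_assoc]
  obtain ⟨y, hy, eC⟩ : ∃ y : K, y ≠ 0 ∧ hh θ * rootC θ (-1) * (hh θ)⁻¹ = negB θ y := by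
    obtain ⟨z'', hz''⟩ : ∃ z'', n6 θ * rootC θ (-1) * (n6 θ)⁻¹ = rootB θ z'' :=
      (tri_fixed θ h3 (mul_mem (mul_mem (mon_n6 θ h3 hθ).1 (rootC_fix θ h3 (-1)))
        (inv_mem (mon_n6 θ h3 hθ).1))).1
        (conj_tri θ (mon_n6 θ h3 hθ) (by norm_num) (by decide +kernel) (by decide +kernel) (by decide +kernel)
          (by decide +kernel) _ _ _)
    refine ⟨-z'', fun e0 => ?_, ?_⟩
    · rw [neg_eq_zero] at e0
      rw [e0, rootB_zero, conj_eq_one_iff] at hz''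
      obtain ⟨-, -, h1, -⟩ := unique_six θ (r := 0) (w := 0) (c := -1) (d := 0) (e := 0) (f := 0)
        (r' := 0) (w' := 0) (c' := 0) (d' := 0) (e' := 0) (f' := 0) (by
          rw [hz'']; simp [rootB_zero, rootC_zero, rootD_zero, X_zero])
      simp at h1
    · rw [negB_eq θ h3 hθ, neg_neg, ← hz'', hh]; group
  obtain ⟨dC, hdC⟩ := conj_D_C θ h3 hhm (by decide +kernel) d
  obtain ⟨tE, htE, -, eE⟩ := conj_single θ h3 hhm (r := 22) (s := 23) (by simp) (by simp) (by decide +kernel) he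
  obtain ⟨tF, htF, -, eF⟩ := conj_single θ h3 hhm (r := 23) (s := 14) (by simp) (by simp) (by decide +kernel) hf
  set S0 : Matrix.SpecialLinearGroup (Fin 2) (Fx θ) := Fam.upper ⟨tF, htF⟩
  have hS0 : gl θ S0 = X 14 tF := gl_upper θ _
  obtain ⟨w0, hw0, ew0⟩ : ∃ w0 ∈ UP θ h3, aD * (a0 * n10 θ) = v1 * negB θ y * gl θ S0 * w0 := by
    have h1 : aD * v1 = v1 * negB θ y * (rootC θ dC * X 23 tE) * gl θ S0 * aD := by
      rw [haD, hv1, hS0, ← eC, ← hdC, ← eE, ← eF,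
        show hh θ * rootB θ 1 * (hh θ)⁻¹ * (hh θ * X 14 (1 : K) * (hh θ)⁻¹) =
          hh θ * (rootB θ 1 * X 14 (1 : K)) * (hh θ)⁻¹ by group, hAB, hrest]
      group
    obtain ⟨w, hw, ew⟩ := UP_mul_lv θ h3 (mul_mem (rootC_mem_UP θ h3 dC) (X23_mem_UP θ h3 htE)) (ofS θ S0)
    rw [lv_ofS] at ew
    refine ⟨w * (aD * X 22 t1), mul_mem hw (mul_mem haD' (X22_mem_UP θ h3 ht1)), ?_⟩
    rw [key, show aD * (v1 * X 22 t1) = aD * v1 * X 22 t1 by group, h1,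
      show v1 * negB θ y * (rootC θ dC * X 23 tE) * gl θ S0 * aD * X 22 t1 =
        v1 * negB θ y * (rootC θ dC * X 23 tE * gl θ S0) * (aD * X 22 t1) by group, ew]
    group
  -- the parameter
  set p : Kˣ := x.1.2 with hp
  set s : K := ((p : K) - 1) / y with hs
  have hps : (p : K) = 1 + s * y := by rw [hs, div_mul_cancel₀ _ hy]; ring
  obtain ⟨t23, ht23, -, e23⟩ := conj_single θ h3 (((mon_n23 θ h3 hθ).inv θ).mul θ hhm) (r := 14) (s := 14)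
    (by simp) (by simp) (by decide +kernel) h14
  obtain ⟨s', hs'⟩ := conj_B θ h3 ((mon_n23 θ h3 hθ).inv θ) (by decide +kernel) s
  obtain ⟨vB, hvB, S1, hBv⟩ : ∃ vB ∈ VN θ h3, ∃ S1, rootB θ s * v1 = v1 * vB * gl θ S1 * rootB θ s := by
    have hv1' : v1 = n23 θ * X 14 t23 * (n23 θ)⁻¹ := by
      rw [← e23, hv1]; group
    have hsB : rootB θ s = n23 θ * rootB θ s' * (n23 θ)⁻¹ := by rw [← hs']; group
    have hneg : θ (-t23) = -t23 := by rw [map_neg, ht23]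
    have hcomm := conj_of_comm (rAB θ h3 (-t23) s' hneg)
    rw [← X_inv, inv_inv] at hcomm
    set cC := -t23 * s'
    set cD := -t23 * (s' * θ s')
    set cE := -t23 * (s' * θ s' * θ (θ s'))
    set cF := -(-t23 * -t23 * (s' * θ s' * θ (θ s')))
    have hN : θ (s' * θ s' * θ (θ s')) = s' * θ s' * θ (θ s') := by simp only [map_mul, h3]; ring
    have hcE : θ cE = cE := by simp only [cE]; rw [map_mul, hN, hneg]
    have hcF : θ cF = cF := by simp only [cF]; rw [map_neg, map_mul, map_mul, hN, hneg]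
    have hm23 := mon_n23 θ h3 hθ
    have hi9 := (mon_n9 θ h3 hθ).inv θ
    obtain ⟨zC, hzC⟩ := conj_C_D θ h3 (hi9.mul θ hm23) (by decide +kernel) cC
    obtain ⟨zD, hzD⟩ := conj_D_B θ h3 (hi9.mul θ hm23) (by decide +kernel) cD
    obtain ⟨zE, hzEf, -, hzE⟩ := conj_single θ h3 (((mon_n6 θ h3 hθ).inv θ).mul θ hm23) (r := 22) (s := 14)
      (by simp) (by simp) (by decide +kernel) hcE
    obtain ⟨zF, hzFf, -, hzF⟩ := conj_single θ h3 (hi9.mul θ hm23) (r := 23) (s := 22)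
      (by simp) (by simp) (by decide +kernel) hcF
    set gE := gl θ (nS (Fx θ) * Fam.upper (⟨zE, hzEf⟩ : Fx θ) * (nS (Fx θ))⁻¹) with hgE
    have hE' : n23 θ * X 22 cE * (n23 θ)⁻¹ = gE := by
      rw [hgE, map_mul, map_mul, map_inv, gl_upper]
      show _ = n6 θ * X 14 zE * (n6 θ)⁻¹
      rw [← hzE]; group
    have hCD : n23 θ * (rootC θ cC * rootD θ cD) * (n23 θ)⁻¹ ∈ VN θ h3 := by
      rw [mem_VN, show (n9 θ)⁻¹ * (n23 θ * (rootC θ cC * rootD θ cD) * (n23 θ)⁻¹) * n9 θ =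
        (n9 θ)⁻¹ * n23 θ * rootC θ cC * ((n9 θ)⁻¹ * n23 θ)⁻¹ *
          ((n9 θ)⁻¹ * n23 θ * rootD θ cD * ((n9 θ)⁻¹ * n23 θ)⁻¹) by group, hzC, hzD]
      exact mul_mem (rootD_mem_UP θ h3 _) (rootB_mem_UP θ h3 _)
    have hF : n23 θ * X 23 cF * (n23 θ)⁻¹ ∈ VN θ h3 := by
      rw [mem_VN, show (n9 θ)⁻¹ * (n23 θ * X 23 cF * (n23 θ)⁻¹) * n9 θ =
        (n9 θ)⁻¹ * n23 θ * X 23 cF * ((n9 θ)⁻¹ * n23 θ)⁻¹ by group, hzF]
      exact X22_mem_UP θ h3 hzFf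
    refine ⟨_, mul_mem hCD (gl_conj_VN θ h3 hθ
      (nS (Fx θ) * Fam.upper (⟨zE, hzEf⟩ : Fx θ) * (nS (Fx θ))⁻¹) hF),
      nS (Fx θ) * Fam.upper (⟨zE, hzEf⟩ : Fx θ) * (nS (Fx θ))⁻¹, ?_⟩
    rw [← hgE, ← hE']
    calc rootB θ s * v1 = n23 θ * X 14 t23 * (((X 14 t23 : G))⁻¹ * rootB θ s' * X 14 t23) * (n23 θ)⁻¹ := by
          rw [hsB, hv1']; group
      _ = _ := by rw [hcomm, hsB, hv1']; group
  obtain ⟨w4, hw4, ew4⟩ := UP_mul_lv θ h3 (rootB_mem_UP θ h3 (s / (p : K))) (ofS θ S0)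
  rw [lv_ofS] at ew4
  obtain ⟨w5, hw5, ew5⟩ := UP_mul_lv θ h3 (mul_mem hw4 hw0) x
  obtain ⟨S, hS, -⟩ := lv_eq_gl θ h3 hθ (x := ofS θ S1 * tEl θ h3 p * ofS θ S0 * x) (by
    show 1 * p⁻¹ * 1 * x.1.2 = 1
    rw [hp, one_mul, mul_one, inv_mul_cancel])
  have hUP : rootB θ s * (aD * a0) ∈ UP θ h3 :=
    mul_mem (rootB_mem_UP θ h3 s) (mul_mem haD' (ha0' ▸ X22_mem_UP θ h3 ht0))
  refine ⟨_, UP_le θ h3 hθ hUP, hUP, v1 * vB * (gl θ S1 * negB θ (y / (p : K)) * (gl θ S1)⁻¹),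
    mul_mem (mul_mem hv1V hvB) (gl_conj_VN θ h3 hθ S1 (negB_mem_VN θ h3 hθ _)), S, w5, hw5, ?_⟩
  rw [← hS, map_mul, map_mul, map_mul, lv_ofS, lv_ofS, lv_tEl]
  calc rootB θ s * (aD * a0) * n10 θ * lv θ x
      = rootB θ s * v1 * negB θ y * gl θ S0 * w0 * lv θ x := by
        rw [show rootB θ s * (aD * a0) * n10 θ = rootB θ s * (aD * (a0 * n10 θ)) by group, ew0]; group
    _ = v1 * vB * gl θ S1 * (rootB θ s * negB θ y) * gl θ S0 * w0 * lv θ x := by rw [hBv]; group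
    _ = v1 * vB * gl θ S1 * negB θ (y / (p : K)) * T θ p * (rootB θ (s / (p : K)) * gl θ S0) * w0 * lv θ x := by
        rw [negB_split θ h3 hθ s y p hps]; group
    _ = v1 * vB * gl θ S1 * negB θ (y / (p : K)) * T θ p * gl θ S0 * (w4 * w0 * lv θ x) := by rw [ew4]; group
    _ = _ := by rw [ew5]; group

end CfsgLib.Lie.TD4Cover
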