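import Cfsg.Agent.Lib.Lie.TD4Cover.Main

/-!
# `³D₄(q)`: an element of order prime to the characteristic whose class squared covers the group
-/

set_option autoImplicit false
set_option maxRecDepth 100000
set_option linter.unusedSectionVars false

namespace CfsgLib.Lie.TD4Cover

open Matrix Cfsg.Lie CfsgLib.Lie.Chev
open CfsgLib.SpFourCover (Sim NS sim_of_eq isUnit_of_ne Par)
open scoped MatrixGroups

variable {K : Type*} [Field K] [Fintype K] {q : ℕ} (θ : K ≃+* K) (hθ : ∀ x, θ x = x ^ q)
  (h3 : ∀ t : K, θ (θ (θ t)) = t) (hq : IsPrimePow q) (hK : Fintype.card K = q ^ 3)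

include hθ h3 hq hK

theorem card_Fx : Nat.card (Fx θ) = q := by
  rw [← Frob.card_fixed (K := K) hq hK]
  exact Nat.card_congr (Equiv.subtypeEquivRight fun x => by rw [mem_Fx, hθ])

open Classical in
theorem norm_surj : ∀ d : Fx θ, d ≠ 0 → ∃ c : Kˣ, N θ (c : K) = d := by
  intro d hd
  have : Fintype (Fx θ) := Fintype.ofFinite _
  let f : Kˣ →* (Fx θ)ˣ := MonoidHom.mk' (nm θ h3) fun a b => nm_mul θ h3 a b
  have hval : ∀ c : Kˣ, (((f c : (Fx θ)ˣ) : Fx θ) : K) = (c : K) ^ (1 + q + q * q) := fun c => by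
    show N θ (c : K) = _
    rw [N, hθ, hθ, ← pow_mul, pow_add, pow_add, pow_one]
  have hq2 := hq.two_le
  have hF : Nat.card (Fx θ)ˣ = q - 1 := by rw [Nat.card_units, card_Fx θ hθ h3 hq hK]
  have hker : Nat.card f.ker ≤ 1 + q + q * q := by
    refine le_trans ?_ (IsCyclic.card_pow_eq_one_le (α := Kˣ) (n := 1 + q + q * q) (by omega))
    rw [← Nat.card_eq_finsetCard]
    refine Nat.card_le_card_of_injective (fun c : f.ker => ⟨c.1, ?_⟩) ?_
    · simp only [Finset.mem_filter, Finset.mem_univ, true_and]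
      refine Units.ext ?_
      rw [Units.val_pow_eq_pow_val, ← hval, MonoidHom.mem_ker.1 c.2]
      rfl
    · intro a b h
      exact Subtype.ext (congrArg Subtype.val h :)
  have hmul : Nat.card f.ker * Nat.card f.range = q ^ 3 - 1 := by
    have := Subgroup.card_mul_index f.ker
    rwa [Subgroup.index_ker, Nat.card_units, Nat.card_eq_fintype_card (α := K), hK] at this
  have hrange : q - 1 ≤ Nat.card f.range := by
    by_contra h
    have h1 : Nat.card f.ker * Nat.card f.range ≤ (1 + q + q * q) * (q - 2) :=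
      Nat.mul_le_mul hker (by omega)
    rw [hmul] at h1
    obtain ⟨m, rfl⟩ : ∃ m, q = m + 2 := ⟨q - 2, by omega⟩
    simp only [Nat.add_sub_cancel] at h1
    have h2 : (1 + (m + 2) + (m + 2) * (m + 2)) * m + 1 < (m + 2) ^ 3 := by nlinarith
    omega
  have htop : f.range = ⊤ := Subgroup.eq_top_of_le_card _ (by rw [hF]; exact hrange)
  obtain ⟨c, hc⟩ : (Units.mk0 d hd) ∈ f.range := htop ▸ Subgroup.mem_top _
  exact ⟨c, by
    have := congrArg (fun u : (Fx θ)ˣ => ((u : Fx θ) : K)) hc
    exact this⟩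

omit hθ hq hK [Fintype K] in
theorem root_lift {d t : Fx θ} (h : ∀ r : Fx θ, r * r - t * r + d ≠ 0) :
    ∀ r : K, r * r - (t : K) * r + (d : K) ≠ 0 := by
  intro r hr
  have hr1 := congrArg θ hr
  simp only [map_add, map_sub, map_mul, Fx_fix, map_zero] at hr1
  by_cases hf : θ r = r
  · exact h ⟨r, hf⟩ (Subtype.ext hr)
  · have e1 : r + θ r = (t : K) := by
      have : (r - θ r) * (r + θ r - t) = 0 := by linear_combination hr - hr1
      have := (mul_eq_zero.1 this).resolve_left (sub_ne_zero.2 (Ne.symm hf))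
      linear_combination this
    have e2 := congrArg θ e1
    rw [map_add, Fx_fix] at e2
    have e3 : r = θ (θ r) := by linear_combination e1 - e2
    apply hf
    calc θ r = θ (θ (θ r)) := by rw [← e3]
      _ = r := h3 r

omit hθ hq hK [Fintype K] in
theorem trip_ne {c : K} (hc : c ≠ 0) (hc1 : c ≠ 1) (h2 : (2 : K) = 0) : θ (θ c) ≠ c * θ c := by
  intro e
  have e1 := congrArg θ e
  rw [h3, map_mul, e] at e1
  have h : θ c * θ c = 1 := by
    apply mul_left_cancel₀ hc
    rw [mul_one]
    linear_combination -e1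
  have h' : (θ c - 1) * (θ c - 1) = 0 := by linear_combination h + (1 - θ c) * h2
  exact hc1 (θ.injective ((sub_eq_zero.1 (mul_self_eq_zero.1 h')).trans (map_one θ).symm))

/-- the element of the Levi subgroup -/
theorem exists_datum : ∃ x₀ : ↥(Lgp θ), FixFree θ x₀ ∧
    ∀ N' : Matrix (Fin 2) (Fin 2) (Fx θ), N'.det = 1 → ((2 : Fx θ) = 0 → N'.trace ≠ 0 ∨ N' = 1) →
      CovS θ x₀ N' := by
  classical
  have : Fintype (Fx θ) := Fintype.ofFinite _
  have hcard : Fintype.card (Fx θ) = q := by rw [← Nat.card_eq_fintype_card, card_Fx θ hθ h3 hq hK]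
  by_cases h3q : 3 ≤ Fintype.card (Fx θ)
  · obtain ⟨P, hP⟩ := CfsgLib.Lie.G2Cover.exists_par h3q
    obtain ⟨c₀, hc₀, hfix, hsq⟩ : ∃ c : Kˣ, N θ (c : K) = P.d ∧ θ (θ (c : K)) ≠ (c : K) * θ (c : K) ∧
        (P.d = -1 → c * c = 1) := by
      by_cases h2 : (2 : Fx θ) = 0
      · obtain ⟨c, hc⟩ := norm_surj θ hθ h3 hq hK P.d P.d0
        have h2K : (2 : K) = 0 := congrArg Subtype.val h2
        refine ⟨c, hc, trip_ne θ h3 c.ne_zero (fun e => P.d1 (Subtype.ext ?_)) h2K, fun hd => ?_⟩
        · rw [← hc, e]; simp [N]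
        · exfalso
          exact P.d1 (by rw [hd]; linear_combination -h2)
      · have hd : P.d = -1 := hP.resolve_left h2
        refine ⟨-1, ?_, fun e => h2 (Subtype.ext ?_), fun _ => by simp⟩
        · rw [hd]; simp [N]
        · simp at e
          show (2 : K) = 0
          linear_combination -e
    let x₀ : ↥(Lgp θ) := ⟨(Matrix.GeneralLinearGroup.mkOfDetNeZero P.A P.det_A_ne, c₀), by
      show ((P.A.det : Fx θ) : K) = _
      rw [P.det_A]; exact hc₀.symm⟩
    refine ⟨x₀, ⟨?_, hfix⟩, fun N' hd htr => ?_⟩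
    · intro r
      show r * r - (P.A.trace : K) * r + (P.A.det : K) ≠ 0
      rw [P.trace_A, P.det_A]
      exact root_lift θ h3 P.root r
    · have hcov : P.Covered N' := by
        by_cases h2 : (2 : Fx θ) = 0
        · rcases htr h2 with h | h
          · exact CfsgLib.Lie.G2Cover.covered_of_trace P h2 hd h
          · rw [h]; exact P.covered_one
        · exact CfsgLib.Lie.G2Cover.covered_odd P (hP.resolve_left h2) hd
      obtain ⟨A₁, A₂, e, h₁, h₂⟩ := hcov
      refine ⟨A₁, A₂, e, h₁, ?_⟩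
      rcases h₂ with h₂ | h₂
      · by_cases hm : P.d = -1
        · exact Or.inr ⟨h₂, hsq hm⟩
        · exfalso
          have hdd : P.d * P.d = 1 := by
            rw [← hd, e, det_mul, (sim_invariants h₁).1, (sim_invariants h₂).1, P.det_A]
          exact (mul_self_eq_one_iff.1 hdd).elim P.d1 hm
      · exact Or.inl h₂
  · have hq2 : q = 2 := by
      have := hq.two_le
      rw [hcard] at h3q
      omega
    have hel : ∀ r : Fx θ, r = 0 ∨ r = 1 := by
      intro r
      by_contra h
      rw [not_or] at h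
      have : ({0, 1, r} : Finset (Fx θ)).card = 3 := by
        rw [Finset.card_insert_of_notMem, Finset.card_insert_of_notMem, Finset.card_singleton]
        · simpa using Ne.symm h.2
        · simp [Ne.symm h.1]
      have h' := Finset.card_le_univ ({0, 1, r} : Finset (Fx θ))
      omega
    have h2 : (2 : Fx θ) = 0 := by
      rcases hel 2 with h | h
      · exact h
      · exact absurd (by linear_combination h : (1 : Fx θ) = 0) one_ne_zero
    have h2K : (2 : K) = 0 := congrArg Subtype.val h2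
    obtain ⟨c₀, hc₀⟩ := Fintype.exists_ne_of_one_lt_card (α := Kˣ) (by
      rw [Fintype.card_units, hK, hq2]; norm_num) 1
    have hN : N θ (c₀ : K) = 1 := by
      have hn := (nm θ h3 c₀).ne_zero
      rcases hel (nm θ h3 c₀ : Fx θ) with h | h
      · exact absurd h hn
      · exact congrArg Subtype.val h
    set A : Matrix (Fin 2) (Fin 2) (Fx θ) := !![0, 1; 1, 1] with hA
    have hdA : A.det = 1 := by simp [hA, det_fin_two]; linear_combination -h2
    have htA : A.trace = 1 := by simp [hA, trace_fin_two]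
    let x₀ : ↥(Lgp θ) := ⟨(Matrix.GeneralLinearGroup.mkOfDetNeZero A (by rw [hdA]; exact one_ne_zero), c₀), by
      show ((A.det : Fx θ) : K) = N θ (c₀ : K)
      exact (congrArg Subtype.val hdA).trans hN.symm⟩
    have hirr : ∀ r : Fx θ, r * r - (1 : Fx θ) * r + 1 ≠ 0 := fun r => by
      rcases hel r with rfl | rfl <;> simp
    refine ⟨x₀, ⟨fun r => ?_, trip_ne θ h3 c₀.ne_zero (fun e => hc₀ (Units.ext e)) h2K⟩, fun N' hd htr => ?_⟩
    · show r * r - (A.trace : K) * r + (A.det : K) ≠ 0
      rw [htA, hdA]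
      exact root_lift θ h3 hirr r
    · have hinv : A⁻¹.det = 1 ∧ A⁻¹.trace = 1 := by
        have := inv_invariants x₀.1.1
        change A⁻¹.det = A.det⁻¹ ∧ A⁻¹.trace = A.trace / A.det at this
        rwa [hdA, htA, inv_one, div_one] at this
      have hns : ∀ B : Matrix (Fin 2) (Fin 2) (Fx θ), B.det = 1 → B.trace = 1 → NS B := fun B b1 b2 =>
        ns_of_irr θ fun r => by rw [b1, b2]; exact root_lift θ h3 hirr r
      rcases htr h2 with h | h
      · have ht : N'.trace = 1 := (hel _).resolve_left h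
        have hu : IsUnit N'.det := by rw [hd]; exact isUnit_one
        have hi : N'⁻¹.det = 1 ∧ N'⁻¹.trace = 1 := by
          have := inv_invariants (Matrix.GeneralLinearGroup.mkOfDetNeZero N' (by rw [hd]; exact one_ne_zero))
          change N'⁻¹.det = N'.det⁻¹ ∧ N'⁻¹.trace = N'.trace / N'.det at this
          rwa [hd, ht, inv_one, div_one] at this
        have hs : (N' * N').det = 1 ∧ (N' * N').trace = 1 := by
          refine ⟨by rw [det_mul, hd, one_mul], ?_⟩
          rw [det_fin_two] at hd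
          rw [trace_fin_two] at ht
          simp [trace_fin_two, Matrix.mul_apply, Fin.sum_univ_two]
          linear_combination (N' 0 0 + N' 1 1 + 1) * ht - 2 * hd - h2
        refine ⟨N'⁻¹, N' * N', by rw [← Matrix.mul_assoc, nonsing_inv_mul _ hu, Matrix.one_mul], ?_, Or.inl ?_⟩
        · exact sim_of_eq (hns _ hi.1 hi.2) (hns _ hdA htA) (hi.1.trans hdA.symm) (hi.2.trans htA.symm)
        · exact sim_of_eq (hns _ hs.1 hs.2) (hns _ hinv.1 hinv.2) (hs.1.trans hinv.1.symm) (hs.2.trans hinv.2.symm)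
      · exact ⟨A, A⁻¹, by rw [h, mul_nonsing_inv _ (isUnit_iff_ne_zero.2 (by rw [hdA]; exact one_ne_zero))],
          Sim.refl _, Or.inl (Sim.refl _)⟩

omit hθ h3 hq hK in
theorem eq_zero_of_pow {F : Type*} [Field F] {n : ℕ} (hn : n ≠ 0) {M : Matrix (Fin 2) (Fin 2) F}
    (h : M ^ n = 0) : M * M = 0 := by
  have hd : M.det = 0 := pow_eq_zero_iff hn |>.1 (by rw [← Matrix.det_pow, h, Matrix.det_zero])
  have hsq : M * M = M.trace • M := by
    rw [Matrix.det_fin_two] at hd
    ext i j
    fin_cases i <;> fin_cases j <;> simp [Matrix.mul_apply, Fin.sum_univ_two, Matrix.trace_fin_two]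
    · linear_combination -hd
    · ring
    · ring
    · linear_combination -hd
  have hpow : ∀ k : ℕ, M ^ (k + 1) = M.trace ^ k • M := fun k => by
    induction k with
    | zero => simp
    | succ k ih => rw [pow_succ, ih, smul_mul_assoc, hsq, smul_smul, ← pow_succ]
  obtain ⟨k, rfl⟩ := Nat.exists_eq_succ_of_ne_zero hn
  rw [hpow, smul_eq_zero] at h
  rcases h with h | h
  · rw [hsq, eq_zero_of_pow_eq_zero h, zero_smul]
  · rw [h, Matrix.mul_zero]

omit hθ h3 hq hK [Fintype K] in
theorem not_dvd_order {p : ℕ} [Fact p.Prime] [CharP K p] {x : ↥(Lgp θ)} (hx : FixFree θ x)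
    (hfin : IsOfFinOrder x) : ¬ p ∣ orderOf x := by
  intro hdvd
  obtain ⟨k, hk⟩ := hdvd
  have hk0 : 0 < k := Nat.pos_of_ne_zero fun h => by
    rw [h, mul_zero] at hk; exact absurd hk (orderOf_pos_iff.2 hfin).ne'
  have : CharP (Fx θ) p := charP_of_injective_ringHom (f := (Fx θ).subtype) Subtype.val_injective p |> fun h =>
    (RingHom.charP_iff (Fx θ).subtype Subtype.val_injective p).2 inferInstance
  set y := x ^ k with hy
  have hyp : y ^ p = 1 := by rw [hy, ← pow_mul, mul_comm, ← hk, pow_orderOf_eq_one]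
  have hc : y.1.2 = 1 := by
    have h1 : ((y.1.2 : K) - 1) ^ p = 0 := by
      have h := congrArg (fun z : ↥(Lgp θ) => ((z.1.2 : Kˣ) : K)) hyp
      simp only [SubmonoidClass.coe_pow, Prod.pow_snd, Units.val_pow_eq_pow_val, OneMemClass.coe_one,
        Prod.snd_one, Units.val_one] at h
      rw [sub_pow_char, h, one_pow, sub_self]
    exact Units.ext (sub_eq_zero.1 (eq_zero_of_pow_eq_zero h1))
  set M := x.1.1.1
  set B : Matrix (Fin 2) (Fin 2) (Fx θ) := y.1.1.1 - 1 with hB
  have hBp : B ^ p = 0 := by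
    have h := congrArg (fun z : ↥(Lgp θ) => z.1.1.1) hyp
    simp only [SubmonoidClass.coe_pow, Prod.pow_fst, Units.val_pow_eq_pow_val, OneMemClass.coe_one,
      Prod.fst_one, Units.val_one] at h
    rw [hB, sub_pow_char_of_commute p (Commute.one_right _), h, one_pow, sub_self]
  have hBB := eq_zero_of_pow (Fact.out : p.Prime).ne_zero hBp
  have hcomm : M * B = B * M := by
    have e := congrArg (fun z : ↥(Lgp θ) => z.1.1.1) ((Commute.self_pow x k).eq)
    have e' : M * y.1.1.1 = y.1.1.1 * M := e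
    rw [hB, Matrix.mul_sub, Matrix.sub_mul, Matrix.mul_one, Matrix.one_mul, e']
  have hB0 : B = 0 := by
    have hirr : ∀ r : Fx θ, r * r - M.trace * r + M.det ≠ 0 := fun r e => hx.1 (r : K) (by
      have := congrArg (fun z : Fx θ => (z : K)) e
      exact this)
    rw [← Matrix.ext_iff] at hBB hcomm
    have q00 := hBB 0 0
    have q11 := hBB 1 1
    have c00 := hcomm 0 0
    have c01 := hcomm 0 1
    have c10 := hcomm 1 0
    have q01 := hBB 0 1
    simp [Matrix.mul_apply, Fin.sum_univ_two] at q00 q01 q11 c00 c01 c10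
    simp only [Matrix.trace_fin_two, Matrix.det_fin_two] at hirr
    have h01 : B 0 1 = 0 := by
      by_contra hb
      refine hirr ((M 0 0 * B 0 1 + M 0 1 * B 1 1) / B 0 1 + 0) ?_
      rw [add_zero]
      field_simp
      have hS : B 0 0 + B 1 1 = 0 := by
        have hp : B 0 1 * (B 0 0 + B 1 1) = 0 := by linear_combination q01
        exact (mul_eq_zero.1 hp).resolve_left hb
      linear_combination (M 0 1 * B 1 1) * c01 + (M 0 1 * B 0 1) * c00 + (M 0 1 * M 0 1 * B 1 1) * hS -
        (M 0 1 * M 0 1) * q11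
    rw [h01] at q00 q11 c00 c01
    simp at q00 q11 c00 c01
    have h10 : B 1 0 = 0 := by
      by_contra hb
      have hp : M 0 1 * B 1 0 = 0 := by linear_combination c00
      have hM : M 0 1 = 0 := (mul_eq_zero.1 hp).resolve_right hb
      refine hirr (M 0 0) ?_
      rw [hM]; ring
    ext i j
    fin_cases i <;> fin_cases j <;> simp [h01, h10, q00, q11]
  have hone : y = 1 := Subtype.ext (Prod.ext (Units.ext (sub_eq_zero.1 hB0)) hc)
  have h1 := Nat.le_of_dvd hk0 (orderOf_dvd_of_pow_eq_one hone)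
  have h2 : 2 * k ≤ p * k := Nat.mul_le_mul_right k (Fact.out : p.Prime).two_le
  omega

end CfsgLib.Lie.TD4Cover
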