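import Cfsg.Agent.Lib.Lie.TD4Cover.Nine
import Cfsg.Agent.Lib.Lie.Chev.Tw.D4Simple

/-!
# Every non-identity element of `³D₄(q)` is conjugate to a covered normal form
-/

set_option autoImplicit false
set_option maxRecDepth 100000
set_option linter.unusedSectionVars false

namespace CfsgLib.Lie.TD4Cover

open Matrix Cfsg.Lie CfsgLib.Lie.Chev CfsgLib.Lie.SL2Rel
open CfsgLib.Lie.Mult.TD4Coord (X X_eq X_zero merge_last swap_zero)
open CfsgLib.Lie.Mult.TD4Rel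
open TD4 (C rt nd)
open scoped MatrixGroups commutatorElement

variable {K : Type*} [Field K] (θ : K ≃+* K) (h3 : ∀ t : K, θ (θ (θ t)) = t) {q : ℕ}

local notation "G" => GL chevD4.Idx K

/-- conjugacy by an element of the twisted group -/
def TConj (q : ℕ) (a b : G) : Prop := ∃ h ∈ twistedD4 K q, h * a * h⁻¹ = b

theorem TConj.trans {a b c : G} (h : TConj q a b) (h' : TConj q b c) : TConj q a c := by
  obtain ⟨x, hx, rfl⟩ := h
  obtain ⟨y, hy, rfl⟩ := h'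
  exact ⟨y * x, mul_mem hy hx, by group⟩

theorem TConj.symm {a b : G} (h : TConj q a b) : TConj q b a := by
  obtain ⟨x, hx, rfl⟩ := h
  exact ⟨x⁻¹, inv_mem hx, by group⟩

variable (Cov : Matrix (Fin 2) (Fin 2) (Fx θ) → Prop)
  (hcov : ∀ N : Matrix (Fin 2) (Fin 2) (Fx θ), N.det = 1 → ((2 : Fx θ) = 0 → N.trace ≠ 0 ∨ N = 1) → Cov N)

/-- the covered normal form -/
def Hit (g : G) : Prop :=
  ∃ v ∈ VN θ h3, ∃ S : Matrix.SpecialLinearGroup (Fin 2) (Fx θ), ∃ u ∈ UP θ h3, Cov S.1 ∧ g = v * gl θ S * u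

theorem exists_translate {S : Matrix (Fin 2) (Fin 2) (Fx θ)} (hS : S.det = 1) (h2 : (2 : Fx θ) = 0) :
    ∃ e : Fx θ, (S * !![1, e; 0, 1]).trace ≠ 0 ∨ S * !![1, e; 0, 1] = 1 := by
  have htr : ∀ e : Fx θ, (S * !![1, e; 0, 1]).trace = S.trace + e * S 1 0 := fun e => by
    simp [Matrix.trace_fin_two, Matrix.mul_apply, Fin.sum_univ_two]; ring
  by_cases h10 : S 1 0 = 0
  · have hd : S 0 0 * S 1 1 = 1 := by rw [Matrix.det_fin_two, h10, mul_zero, sub_zero] at hS; exact hS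
    by_cases h00 : S 0 0 = 1
    · refine ⟨-S 0 1, Or.inr ?_⟩
      have h11 : S 1 1 = 1 := by rwa [h00, one_mul] at hd
      ext i j
      fin_cases i <;> fin_cases j <;> simp [Matrix.mul_apply, Fin.sum_univ_two, h00, h10, h11]
    · refine ⟨0, Or.inl ?_⟩
      rw [htr, zero_mul, add_zero, Matrix.trace_fin_two]
      intro e
      apply h00
      have hs : (S 0 0 - 1) * (S 0 0 - 1) = 0 := by linear_combination S 0 0 * e - hd - S 0 0 * h2
      exact sub_eq_zero.1 (mul_self_eq_zero.1 hs)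
  · refine ⟨(1 - S.trace) / S 1 0, Or.inl ?_⟩
    rw [htr, div_mul_cancel₀ _ h10, add_sub_cancel]
    exact one_ne_zero

variable (hθ : ∀ x, θ x = x ^ q)

include h3 hθ hcov

theorem hit_side {n : G} {l : List (Fin chevD4.rank)} (hn : Mon θ n l) (hre : Reach (q := q) θ h3 n) {r : ℕ}
    (hr : r = 22 ∨ r = 23) (hi : img l.reverse 14 = r) (x : ↥(Lgp θ)) {u : G} (hu : u ∈ UP θ h3) :
    ∃ g', TConj q (n * lv θ x * u) g' ∧ Hit θ h3 Cov g' := by
  obtain ⟨a, haT, haU, v, hv, S, w, hw, e⟩ := hre x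
  obtain ⟨ε, hε⟩ : ∃ ε : Fx θ, Cov (S * Fam.upper ε).1 := by
    by_cases h2 : (2 : Fx θ) = 0
    · obtain ⟨ε, hε⟩ := exists_translate θ S.2 h2
      exact ⟨ε, hcov _ (S * Fam.upper ε).2 fun _ => hε⟩
    · exact ⟨0, hcov _ (S * Fam.upper 0).2 fun h => absurd h h2⟩
  obtain ⟨t', ht', -, et⟩ := conj_single θ h3 (hn.inv θ) (r := 14) (s := r) (by simp)
    (by rcases hr with rfl | rfl <;> simp) hi (Fx_fix θ (-ε))
  have hγ : (X r t' : G) ∈ UP θ h3 := by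
    rcases hr with rfl | rfl
    · exact X22_mem_UP θ h3 ht'
    · exact X23_mem_UP θ h3 ht'
  obtain ⟨w1, hw1, e1⟩ := UP_mul_lv θ h3 hγ x
  obtain ⟨w2, hw2, e2⟩ := UP_mul_lv θ h3 (mul_mem hw1 hu) (ofS θ (Fam.upper ε))
  obtain ⟨w3, hw3, e3⟩ := UP_mul_lv θ h3 hw (ofS θ (Fam.upper ε))
  rw [lv_ofS] at e2 e3
  refine ⟨a * gl θ (Fam.upper (-ε)) * (n * lv θ x * u) * (a * gl θ (Fam.upper (-ε)))⁻¹,
    ⟨_, mul_mem haT (gl_mem θ h3 hθ _), rfl⟩, v, hv, S * Fam.upper ε, w3 * w2 * a⁻¹,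
    mul_mem (mul_mem hw3 hw2) (inv_mem haU), hε, ?_⟩
  have hinv : (gl θ (Fam.upper (-ε)))⁻¹ = gl θ (Fam.upper ε) := by
    rw [← map_inv]
    congr 1
    rw [inv_eq_iff_mul_eq_one]
    refine Subtype.ext ?_
    simp only [Matrix.SpecialLinearGroup.coe_mul]
    ext i j
    fin_cases i <;> fin_cases j <;> simp [Fam.upper, Matrix.mul_apply, Fin.sum_univ_two]
  rw [map_mul]
  calc a * gl θ (Fam.upper (-ε)) * (n * lv θ x * u) * (a * gl θ (Fam.upper (-ε)))⁻¹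
      = a * n * (n⁻¹ * X 14 ((-ε : Fx θ) : K) * n⁻¹⁻¹) * lv θ x * u * gl θ (Fam.upper ε) * a⁻¹ := by
        rw [_root_.mul_inv_rev, hinv, gl_upper θ (-ε)]; group
    _ = a * n * (X r t' * lv θ x) * u * gl θ (Fam.upper ε) * a⁻¹ := by rw [et]; group
    _ = a * n * lv θ x * (w1 * u * gl θ (Fam.upper ε)) * a⁻¹ := by rw [e1]; group
    _ = v * gl θ S * (w * gl θ (Fam.upper ε)) * w2 * a⁻¹ := by rw [e2, e]; group
    _ = _ := by rw [e3]; group

omit hcov in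
theorem hit_of {n : G} {x : ↥(Lgp θ)} {a v w : G} {S : Matrix.SpecialLinearGroup (Fin 2) (Fx θ)}
    (haT : a ∈ twistedD4 K q) (haU : a ∈ UP θ h3) (hv : v ∈ VN θ h3) (hw : w ∈ UP θ h3)
    (e : a * n * lv θ x = v * gl θ S * w) (hS : Cov S.1) {u : G} (hu : u ∈ UP θ h3) :
    ∃ g', TConj q (n * lv θ x * u) g' ∧ Hit θ h3 Cov g' :=
  ⟨a * (n * lv θ x * u) * a⁻¹, ⟨a, haT, rfl⟩, v, hv, S, w * u * a⁻¹, mul_mem (mul_mem hw hu) (inv_mem haU), hS,
    by rw [show a * (n * lv θ x * u) * a⁻¹ = a * n * lv θ x * u * a⁻¹ by group, e]; group⟩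

omit hcov in
theorem H_form {g : G} (hg : g ∈ (TD4.twist θ).Fix ⊓ chevD4.diagonalSubgroup K) :
    ∃ (a : (Fx θ)ˣ) (b : Kˣ), g = lv θ (hEl θ h3 a b) := by
  obtain ⟨c, rfl, hc⟩ := (TD4.twist θ).exists_fixed_tor_three hg (TD4.σT_three θ h3)
    fun z hz => TD4.ker_sq hz
  obtain ⟨f1, f2, f3⟩ := TD4.fixed_params θ hc
  refine ⟨Units.mk0 ⟨(c (nd 1) : K), f1⟩ fun e => (c (nd 1)).ne_zero (congrArg Subtype.val e), c (nd 0), ?_⟩
  rw [lv_hEl θ h3, gl_dS, T_eq, ← map_mul, ← par_mul, mul_one, one_mul]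
  congr 1
  funext j
  have hi : ∀ i : Fin chevD4.rank, i = nd 0 ∨ i = nd 1 ∨ i = nd 2 ∨ i = nd 3 := by decide +kernel
  have hne : (nd 0 : Fin chevD4.rank) ≠ nd 1 ∧ (nd 2 : Fin chevD4.rank) ≠ nd 1 ∧
      (nd 3 : Fin chevD4.rank) ≠ nd 1 ∧ (nd 2 : Fin chevD4.rank) ≠ nd 0 ∧
      (nd 3 : Fin chevD4.rank) ≠ nd 0 ∧ (nd 3 : Fin chevD4.rank) ≠ nd 2 := by decide +kernel
  obtain ⟨d1, d2, d3, d4, d5, d6⟩ := hne
  rcases hi j with rfl | rfl | rfl | rfl
  · simp [TD4.par, d1]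
  · exact Units.ext (by simp [TD4.par])
  · exact Units.ext (by simp [TD4.par, d2, d4, f2])
  · exact Units.ext (by simp [TD4.par, d3, d5, d6, f3])

omit hcov in
theorem nine_rel : ∃ (α : (Fx θ)ˣ) (b : Kˣ),
    n9 θ = n7 θ * n23 θ * lv θ (hEl θ h3 α b * ofS θ (nS (Fx θ))⁻¹) := by
  have h1 := (mon_n7 θ h3 hθ).mul θ (mon_n23 θ h3 hθ)
  have h2 := (mon_n9 θ h3 hθ).mul θ (mon_n6 θ h3 hθ)
  have he : C.G.pw (s7 ++ w23) = C.G.pw (w9 ++ s6) := by
    refine Equiv.ext fun r => Fin.ext ?_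
    rw [pw_img, pw_img]
    revert r
    decide +kernel
  have hH : (n7 θ * n23 θ)⁻¹ * (n9 θ * n6 θ) ∈ (TD4.twist θ).Fix ⊓ chevD4.diagonalSubgroup K := by
    refine Subgroup.mem_inf.2 ⟨mul_mem (inv_mem h1.1) h2.1,
      C.G.mem_H_of_nPerm_one (mul_mem (inv_mem h1.2.1) h2.2.1) ?_⟩
    have := Good.NPerm.mul C.G (Good.NPerm.inv C.G h1.2.2) h2.2.2
    rwa [he, inv_mul_cancel] at this
  obtain ⟨α, b, e⟩ := H_form θ h3 hθ hH
  refine ⟨α, b, ?_⟩
  rw [map_mul, lv_ofS, map_inv, ← e]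
  show _ = n7 θ * n23 θ * ((n7 θ * n23 θ)⁻¹ * (n9 θ * n6 θ) * (n6 θ)⁻¹)
  group

theorem hit_nine_odd (h2 : (2 : Fx θ) ≠ 0) (x : ↥(Lgp θ)) {u : G} (hu : u ∈ UP θ h3) :
    ∃ g', TConj q (n9 θ * lv θ x * u) g' ∧ Hit θ h3 Cov g' := by
  obtain ⟨α, b, e9⟩ := nine_rel θ h3 hθ
  set x' := hEl θ h3 α b * ofS θ (nS (Fx θ))⁻¹ * x with hx'
  obtain ⟨a, haT, haU, v, hv, S, w, hw, e, -⟩ := reach73 θ h3 hθ x' x'.1.2 1 (by simp)
  rw [show n9 θ * lv θ x * u = n7 θ * n23 θ * lv θ x' * u by rw [e9, hx']; simp only [map_mul, mul_assoc]]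
  exact hit_of θ h3 Cov hθ haT haU hv hw e (hcov _ S.2 fun h => absurd h h2) hu

omit hcov hθ in
theorem nm_mul (b b' : Kˣ) : nm θ h3 (b * b') = nm θ h3 b * nm θ h3 b' := by
  refine Units.ext (Subtype.ext ?_)
  show N θ ((b * b' : Kˣ) : K) = N θ (b : K) * N θ (b' : K)
  simp only [Units.val_mul, N, map_mul]
  ring

omit hcov hθ in
theorem nm_inv (b : Kˣ) : nm θ h3 b⁻¹ = (nm θ h3 b)⁻¹ := by
  rw [eq_inv_iff_mul_eq_one, ← nm_mul, inv_mul_cancel]
  exact Units.ext (Subtype.ext (by show N θ ((1 : Kˣ) : K) = 1; simp [N]))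

omit hcov hθ in
theorem nm_inK (a : (Fx θ)ˣ) : nm θ h3 (inK θ a) = a ^ 3 := by
  refine Units.ext (Subtype.ext ?_)
  show N θ _ = _
  rw [N_inK, Units.val_pow_eq_pow_val]
  rfl

omit hcov hθ in
theorem tEl_mat (b : Kˣ) : (tEl θ h3 b).1.1.1 = !![(((nm θ h3 b)⁻¹ : (Fx θ)ˣ) : Fx θ), 0; 0, 1] := by
  ext i j
  fin_cases i <;> fin_cases j <;> simp [tEl, nm]
  all_goals rfl

omit hcov hθ in
theorem hEl_mat (a : (Fx θ)ˣ) (b : Kˣ) : (hEl θ h3 a b).1.1.1 =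
    !![(a : Fx θ) / ((nm θ h3 b : (Fx θ)ˣ) : Fx θ), 0; 0, 1 / (a : Fx θ)] := by
  show (dS a).1 * (tEl θ h3 b).1.1.1 = _
  rw [tEl_mat]
  show !![(a : Fx θ), 0; 0, ((a⁻¹ : (Fx θ)ˣ) : Fx θ)] * _ = _
  ext i j
  fin_cases i <;> fin_cases j <;> simp [Matrix.mul_apply, Fin.sum_univ_two, div_eq_mul_inv]

variable [Fintype K]

theorem hit_nine_even (h2 : (2 : Fx θ) = 0) (x : ↥(Lgp θ)) {u : G} (hu : u ∈ UP θ h3) :
    ∃ g', TConj q (n9 θ * lv θ x * u) g' ∧ Hit θ h3 Cov g' := by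
  classical
  have h2K : (2 : K) = 0 := congrArg Subtype.val h2
  set M : Matrix (Fin 2) (Fin 2) (Fx θ) := x.1.1.1 with hM
  by_cases hA : M.trace ≠ 0 ∨ (M 0 1 = 0 ∧ M 1 0 = 0 ∧ M 0 0 = M 1 1)
  · -- the root of the short root orthogonal to the central node
    let f : Kˣ → Kˣ := fun k => inK θ (nm θ h3 k) * k⁻¹
    have hf : Function.Injective f := by
      intro k k' hk
      have hv : ∀ k : Kˣ, ((f k : Kˣ) : K) = θ k * θ (θ (k : K)) := fun k => by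
        have := k.ne_zero
        simp [f, inK, nm, N]
        field_simp
      have e1 : θ (k : K) * θ (θ (k : K)) = θ k' * θ (θ (k' : K)) := by rw [← hv, ← hv, hk]
      have e2 : θ (θ (k : K)) * (k : K) = θ (θ (k' : K)) * k' := by
        have := congrArg θ e1; rwa [map_mul, map_mul, h3, h3] at this
      have e3 : (k : K) * θ k = k' * θ k' := by
        have := congrArg θ e2; rwa [map_mul, map_mul, h3, h3] at this
      have h0 : θ (k : K) * θ (θ (k : K)) ≠ 0 := by rw [← hv]; exact (f k).ne_zero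
      have hsq : ((k : K) - k') * ((k : K) - k') = 0 := by
        have h4 : θ (k : K) * θ (θ (k : K)) * ((k : K) * k - k' * k') = 0 := by
          linear_combination ((k : K) * θ k) * e2 + (θ (θ (k' : K)) * k') * e3 - (k' : K) * k' * e1
        have h5 := (mul_eq_zero.1 h4).resolve_left h0
        linear_combination h5 + ((k' : K) * k' - k * k') * h2K
      exact Units.ext (sub_eq_zero.1 (mul_self_eq_zero.1 hsq))
    obtain ⟨k, hk⟩ := Finite.injective_iff_surjective.1 hf x.1.2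
    obtain ⟨a, haT, haU, v, hv, S, w, hw, e, hS⟩ := reach9 θ h3 hθ x k hk.symm
    refine hit_of θ h3 Cov hθ haT haU hv hw e (hcov _ S.2 fun _ => ?_) hu
    have hk0 : ((nm θ h3 k : Fx θ)) ≠ 0 := (nm θ h3 k).ne_zero
    have hSM : S.1 = ((nm θ h3 k)⁻¹ : (Fx θ)ˣ).1 • M := by
      rw [hS]
      have hE : (hEl θ h3 (nm θ h3 k) (inK θ (nm θ h3 k) * k⁻¹)).1.1.1 =
          ((nm θ h3 k)⁻¹ : (Fx θ)ˣ).1 • (1 : Matrix (Fin 2) (Fin 2) (Fx θ)) := by
        rw [hEl_mat θ h3, nm_mul θ h3, nm_inv θ h3, nm_inK θ h3]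
        ext i j
        fin_cases i <;> fin_cases j <;> simp <;> field_simp
      show (hEl θ h3 (nm θ h3 k) (inK θ (nm θ h3 k) * k⁻¹)).1.1.1 * M = _
      rw [hE, Matrix.smul_mul, Matrix.one_mul]
    rcases hA with hA | ⟨e01, e10, e00⟩
    · left
      rw [hSM, Matrix.trace_smul, smul_eq_mul]
      exact mul_ne_zero (Units.ne_zero _) hA
    · right
      have hd := S.2
      rw [Matrix.det_fin_two, hSM] at hd
      simp only [Matrix.smul_apply, smul_eq_mul, e01, e10, ← e00] at hd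
      have hs : (((nm θ h3 k)⁻¹ : (Fx θ)ˣ) : Fx θ) * M 0 0 = 1 := by
        set z := (((nm θ h3 k)⁻¹ : (Fx θ)ˣ) : Fx θ) * M 0 0
        have : (z - 1) * (z - 1) = 0 := by linear_combination hd + (1 - z) * h2
        exact sub_eq_zero.1 (mul_self_eq_zero.1 this)
      rw [hSM]
      ext i j
      fin_cases i <;> fin_cases j <;> simp [e01, e10, ← e00]
      all_goals simpa using congrArg Subtype.val hs
  · -- the two orthogonal roots
    rw [not_or, not_not] at hA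
    obtain ⟨htr, hns⟩ := hA
    obtain ⟨α, b, e9⟩ := nine_rel θ h3 hθ
    set x' := hEl θ h3 α b * ofS θ (nS (Fx θ))⁻¹ * x with hx'
    have hnine : n9 θ * lv θ x * u = n7 θ * n23 θ * lv θ x' * u := by
      rw [e9, hx']; simp only [map_mul, mul_assoc]
    rw [hnine]
    set D : Fx θ := ((nm θ h3 x'.1.2 : (Fx θ)ˣ) : Fx θ) * ((nm θ h3 b : (Fx θ)ˣ) : Fx θ) with hD
    have hD0 : D ≠ 0 := mul_ne_zero (Units.ne_zero _) (Units.ne_zero _)
    have hS_of : ∀ p : (Fx θ)ˣ, (tEl θ h3 (x'.1.2 * (inK θ p)⁻¹) *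
        hEl θ h3 (p⁻¹ * ((p⁻¹) ^ 3)⁻¹) (inK θ p) * x').1.1.1 =
        !![-((p : Fx θ) ^ 2 * α / D * M 1 0), -((p : Fx θ) ^ 2 * α / D * M 1 1);
          M 0 0 / ((p : Fx θ) ^ 2 * α), M 0 1 / ((p : Fx θ) ^ 2 * α)] := by
      intro p
      have hp := p.ne_zero
      have hpk : ((p : Fx θ) : K) ≠ 0 := fun h => hp (Subtype.ext h)
      have hc := x'.1.2.ne_zero
      have e1 : (tEl θ h3 (x'.1.2 * (inK θ p)⁻¹)).1.1.1 =
          !![(p : Fx θ) ^ 3 / ((nm θ h3 x'.1.2 : (Fx θ)ˣ) : Fx θ), 0; 0, 1] := by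
        rw [tEl_mat θ h3, nm_mul θ h3, nm_inv θ h3, nm_inK θ h3]
        ext i j
        fin_cases i <;> fin_cases j <;> simp <;> field_simp
      have e2 : (hEl θ h3 (p⁻¹ * ((p⁻¹) ^ 3)⁻¹) (inK θ p)).1.1.1 =
          !![1 / (p : Fx θ), 0; 0, 1 / (p : Fx θ) ^ 2] := by
        rw [hEl_mat θ h3, nm_inK θ h3]
        ext i j
        fin_cases i <;> fin_cases j <;> simp <;> field_simp
      have e3 : x'.1.1.1 =
          !![(α : Fx θ) / ((nm θ h3 b : (Fx θ)ˣ) : Fx θ), 0; 0, 1 / (α : Fx θ)] * !![0, -1; 1, 0] * M := by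
        rw [hx', hM]
        show (hEl θ h3 α b).1.1.1 * ((nS (Fx θ))⁻¹).1 * x.1.1.1 = _
        congr 2
        · exact hEl_mat θ h3 α b
        · rw [Matrix.SpecialLinearGroup.coe_inv]
          ext i j
          fin_cases i <;> fin_cases j <;> simp [nS, Matrix.adjugate_fin_two]
      show (tEl θ h3 (x'.1.2 * (inK θ p)⁻¹)).1.1.1 * (hEl θ h3 (p⁻¹ * ((p⁻¹) ^ 3)⁻¹) (inK θ p)).1.1.1 * x'.1.1.1 = _
      rw [e1, e2, e3, hD]
      have hα := α.ne_zero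
      have h1 := (nm θ h3 x'.1.2).ne_zero
      have h2' := (nm θ h3 b).ne_zero
      ext i j
      fin_cases i <;> fin_cases j <;>
        simp [Matrix.mul_apply, Matrix.vecMul, dotProduct, Fin.sum_univ_two] <;> field_simp
    obtain ⟨p, hp⟩ : ∃ p : (Fx θ)ˣ,
        (!![-((p : Fx θ) ^ 2 * α / D * M 1 0), -((p : Fx θ) ^ 2 * α / D * M 1 1);
          M 0 0 / ((p : Fx θ) ^ 2 * α), M 0 1 / ((p : Fx θ) ^ 2 * α)] : Matrix (Fin 2) (Fin 2) (Fx θ)).trace ≠ 0 ∨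
        (!![-((p : Fx θ) ^ 2 * α / D * M 1 0), -((p : Fx θ) ^ 2 * α / D * M 1 1);
          M 0 0 / ((p : Fx θ) ^ 2 * α), M 0 1 / ((p : Fx θ) ^ 2 * α)] : Matrix (Fin 2) (Fin 2) (Fx θ)) = 1 := by
      by_contra hne
      rw [not_exists] at hne
      have hα := α.ne_zero
      have h00 : M 0 0 = M 1 1 := by
        rw [Matrix.trace_fin_two] at htr
        linear_combination htr - M 1 1 * h2
      have hz : ∀ p : (Fx θ)ˣ, -((p : Fx θ) ^ 2 * α / D * M 1 0) + M 0 1 / ((p : Fx θ) ^ 2 * α) = 0 := by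
        intro p
        have := (not_or.1 (hne p)).1
        rw [not_not, Matrix.trace_fin_two] at this
        simpa using this
      have hp1 := hz 1
      have hrel : M 0 1 * D = α * α * M 1 0 := by
        simp at hp1
        field_simp at hp1
        linear_combination hp1
      have h10 : M 1 0 ≠ 0 := by
        intro h
        rw [h, mul_zero] at hrel
        exact hns ⟨(mul_eq_zero.1 hrel).resolve_right hD0, h, h00⟩
      have hall : ∀ p : (Fx θ)ˣ, (p : Fx θ) = 1 := by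
        intro p
        have := hz p
        have hp0 := p.ne_zero
        field_simp at this
        have h4 : (α : Fx θ) * α * M 1 0 * ((p : Fx θ) ^ 4 - 1) = 0 := by
          linear_combination hrel - this
        have h5 := (mul_eq_zero.1 h4).resolve_left (mul_ne_zero (mul_ne_zero hα hα) h10)
        have h6 : ((p : Fx θ) - 1) ^ 4 = 0 := by
          linear_combination h5 + (-2 * (p : Fx θ) ^ 3 + 3 * (p : Fx θ) ^ 2 - 2 * (p : Fx θ) + 1) * h2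
        exact sub_eq_zero.1 (pow_eq_zero_iff (by norm_num) |>.1 h6)
      have hcases : ∀ z : Fx θ, z ≠ 0 → z = 1 := fun z hz => hall (Units.mk0 z hz)
      have h01 : M 0 1 ≠ 0 := fun h => by
        rw [h, zero_mul] at hrel
        exact mul_ne_zero (mul_ne_zero hα hα) h10 hrel.symm
      have hd : M.det ≠ 0 := det_ne x.1.1
      rw [Matrix.det_fin_two, hcases _ h01, hcases _ h10, ← h00, one_mul] at hd
      have h00' : M 0 0 = 0 := by
        by_contra h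
        exact hd (by rw [hcases _ h, one_mul, sub_self])
      refine (not_or.1 (hne 1)).2 ?_
      have hm1 : (-1 : Fx θ) = 1 := by linear_combination -h2
      ext i j
      fin_cases i <;> fin_cases j <;>
        simp [h00', ← h00, hcases _ hα, hcases _ hD0, hcases _ h01, hcases _ h10, hm1]
    obtain ⟨a, haT, haU, v, hv, S, w, hw, e, hS⟩ := reach73 θ h3 hθ x' (x'.1.2 * (inK θ p)⁻¹) p (by group)
    refine hit_of θ h3 Cov hθ haT haU hv hw e (hcov _ S.2 fun _ => ?_) hu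
    rw [hS, hS_of p]
    exact hp

/-- the reduced words -/
def wds : List (List (Fin chevD4.rank)) :=
  [[], s6, s7, s6 ++ s7, s7 ++ s6, s6 ++ s7 ++ s6, s7 ++ s6 ++ s7, s6 ++ s7 ++ s6 ++ s7, s7 ++ s6 ++ s7 ++ s6,
    s6 ++ s7 ++ s6 ++ s7 ++ s6, s7 ++ s6 ++ s7 ++ s6 ++ s7, s6 ++ s7 ++ s6 ++ s7 ++ s6 ++ s7]

omit hcov hθ [Fintype K] in
theorem exists_word {π : Equiv.Perm (Fin chevD4.nroots)} (h : π ∈ Wp C.G (TD4.twist θ).p) :
    ∃ l ∈ wds, π = C.G.pw l := by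
  refine (TD4.orbits θ).induction_on (P := fun π => ∃ l ∈ wds, π = C.G.pw l) h ⟨[], by simp [wds], ?_⟩ ?_
  · rw [C.G.pw_nil]
  · rintro π' - k - - ⟨l, hl, rfl⟩
    have step : ∀ l ∈ wds, ∀ k : Fin orbGraphD4.no, ∃ l' ∈ wds, ∀ r : Fin chevD4.nroots,
        img (l ++ (if k.val = 0 then [nd 1] else [nd 0, nd 2, nd 3])) r.val = img l' r.val := by decide +kernel
    have hw : ∀ k : Fin orbGraphD4.no,
        orbGraphD4.wl chevD4 k = if k.val = 0 then [nd 1] else [nd 0, nd 2, nd 3] := by decide +kernel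
    obtain ⟨l', hl', e⟩ := step l hl k
    refine ⟨l', hl', Equiv.ext fun r => Fin.ext ?_⟩
    rw [show (TD4.orbits θ).wO k = C.G.pw (orbGraphD4.wl chevD4 k) from rfl, hw, ← C.G.pw_append, pw_img, pw_img,
      e r]

omit hcov hθ [Fintype K] in
theorem word_split : ∀ l ∈ wds, ∃ X ∈ ([[], s7, w10, w9] : List (List (Fin chevD4.rank))),
    ∃ pre ∈ ([[], s6] : List (List (Fin chevD4.rank))), ∃ suf ∈ ([[], s6] : List (List (Fin chevD4.rank))),
      ∀ r : Fin chevD4.nroots, img l r.val = img (pre ++ X ++ suf) r.val := by decide +kernel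

variable (hq : IsPrimePow q) (hK : Fintype.card K = q ^ 3)

include hq hK

theorem exists_hit {g : G} (hg : g ∈ twistedD4 K q) (hnot : g ∉ PP θ h3) :
    ∃ g', TConj q g g' ∧ Hit θ h3 Cov g' := by
  obtain ⟨v, m, u, π, hv, hm, hπ, hmπ, hu, rfl⟩ := (TD4.twist θ).fix_bruhat (TD4.le_Fix θ hθ h3 hg)
  have hvP := U_le_PP θ h3 hθ hq hK hv
  have huP := U_le_PP θ h3 hθ hq hK (Subgroup.mem_inf.2 ⟨hu.1, C.G.Uinv_le π hu.2⟩)
  obtain ⟨l, hl, rfl⟩ := exists_word θ h3 hπ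
  obtain ⟨X, hX, pre, hpre, suf, hsuf, himg⟩ := word_split θ h3 l hl
  have hone : Mon θ (1 : G) [] := ⟨one_mem _, one_mem _, by rw [C.G.pw_nil]; exact Good.NPerm.one C.G⟩
  have hsmall : ∀ s ∈ ([[], s6] : List (List (Fin chevD4.rank))), ∃ n, Mon θ n s ∧ n ∈ PP θ h3 ∧
      n ∈ twistedD4 K q := by
    intro s hs
    rcases List.mem_cons.1 hs with rfl | hs
    · exact ⟨1, hone, one_mem _, one_mem _⟩
    · rw [List.mem_singleton.1 hs]
      exact ⟨n6 θ, mon_n6 θ h3 hθ, gl_mem_PP θ h3 _, gl_mem θ h3 hθ _⟩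
  obtain ⟨np, hnp, hnpP, hnpT⟩ := hsmall pre hpre
  obtain ⟨ns, hns, hnsP, -⟩ := hsmall suf hsuf
  obtain ⟨nX, hnX⟩ : ∃ nX, Mon θ nX X := by
    simp only [List.mem_cons, List.not_mem_nil, or_false] at hX
    rcases hX with rfl | rfl | rfl | rfl
    exacts [⟨1, hone⟩, ⟨_, mon_n7 θ h3 hθ⟩, ⟨_, mon_n10 θ h3 hθ⟩, ⟨_, mon_n9 θ h3 hθ⟩]
  have hw := (hnp.mul θ hnX).mul θ hns
  have hh' : (np * nX * ns)⁻¹ * m ∈ PP θ h3 := by
    refine H_le_PP θ h3 (Subgroup.mem_inf.2 ⟨mul_mem (inv_mem hw.1) hm.1,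
      C.G.mem_H_of_nPerm_one (mul_mem (inv_mem hw.2.1) hm.2) ?_⟩)
    have e : C.G.pw l = C.G.pw (pre ++ X ++ suf) := Equiv.ext fun r => Fin.ext (by rw [pw_img, pw_img, himg])
    have := Good.NPerm.mul C.G (Good.NPerm.inv C.G hw.2.2) hmπ
    rwa [e, inv_mul_cancel] at this
  set p := ns * ((np * nX * ns)⁻¹ * m) * u * v * np with hp
  have hpP : p ∈ PP θ h3 := mul_mem (mul_mem (mul_mem (mul_mem hnsP hh') huP) hvP) hnpP
  have hT : (v * np)⁻¹ ∈ twistedD4 K q :=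
    inv_mem (mul_mem ((Mult.TD4Data.mem_iff θ hθ h3).2 hv.1) hnpT)
  have hconj : TConj q (v * m * u) (nX * p) := ⟨_, hT, by rw [hp]; group⟩
  obtain ⟨x, w, hwU, e⟩ := hpP
  suffices H : ∃ g', TConj q (nX * lv θ x * w) g' ∧ Hit θ h3 Cov g' by
    obtain ⟨g', hgg, hit⟩ := H
    exact ⟨g', hconj.trans (by rwa [e, ← mul_assoc]), hit⟩
  simp only [List.mem_cons, List.not_mem_nil, or_false] at hX
  rcases hX with rfl | rfl | rfl | rfl
  · exfalso
    apply hnot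
    have hm' : m ∈ PP θ h3 := by
      have hnXP : nX ∈ PP θ h3 := by
        refine H_le_PP θ h3 (Subgroup.mem_inf.2 ⟨hnX.1, C.G.mem_H_of_nPerm_one hnX.2.1 ?_⟩)
        have := hnX.2.2
        rwa [C.G.pw_nil] at this
      have := mul_mem (mul_mem (mul_mem hnpP hnXP) hnsP) hh'
      rwa [show np * nX * ns * ((np * nX * ns)⁻¹ * m) = m by group] at this
    exact mul_mem (mul_mem hvP hm') huP
  · have e7 : nX⁻¹ * n7 θ ∈ (TD4.twist θ).Fix ⊓ chevD4.diagonalSubgroup K := by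
      refine Subgroup.mem_inf.2 ⟨mul_mem (inv_mem hnX.1) (mon_n7 θ h3 hθ).1,
        C.G.mem_H_of_nPerm_one (mul_mem (inv_mem hnX.2.1) (mon_n7 θ h3 hθ).2.1) ?_⟩
      have := Good.NPerm.mul C.G (Good.NPerm.inv C.G hnX.2.2) (mon_n7 θ h3 hθ).2.2
      rwa [inv_mul_cancel] at this
    obtain ⟨y, hy⟩ : ∃ y, nX = n7 θ * lv θ y := by
      obtain ⟨a, b, eab⟩ := H_form θ h3 hθ (inv_mem e7)
      exact ⟨_, by rw [← eab]; group⟩
    rw [hy, show n7 θ * lv θ y * lv θ x * w = n7 θ * lv θ (y * x) * w by rw [map_mul]; group]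
    exact hit_side θ h3 Cov hcov hθ (mon_n7 θ h3 hθ) (reach7 θ h3 hθ) (r := 22) (Or.inl rfl)
      (by decide +kernel) _ hwU
  · obtain ⟨y, hy⟩ : ∃ y, nX = n10 θ * lv θ y := by
      have h10 := mon_n10 θ h3 hθ
      have e10 : (n10 θ)⁻¹ * nX ∈ (TD4.twist θ).Fix ⊓ chevD4.diagonalSubgroup K := by
        refine Subgroup.mem_inf.2 ⟨mul_mem (inv_mem h10.1) hnX.1,
          C.G.mem_H_of_nPerm_one (mul_mem (inv_mem h10.2.1) hnX.2.1) ?_⟩
        have := Good.NPerm.mul C.G (Good.NPerm.inv C.G h10.2.2) hnX.2.2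
        rwa [inv_mul_cancel] at this
      obtain ⟨a, b, eab⟩ := H_form θ h3 hθ e10
      exact ⟨_, by rw [← eab]; group⟩
    rw [hy, show n10 θ * lv θ y * lv θ x * w = n10 θ * lv θ (y * x) * w by rw [map_mul]; group]
    exact hit_side θ h3 Cov hcov hθ (mon_n10 θ h3 hθ) (reach10 θ h3 hθ) (r := 23) (Or.inr rfl)
      (by decide +kernel) _ hwU
  · obtain ⟨y, hy⟩ : ∃ y, nX = n9 θ * lv θ y := by
      have h9 := mon_n9 θ h3 hθ
      have e9 : (n9 θ)⁻¹ * nX ∈ (TD4.twist θ).Fix ⊓ chevD4.diagonalSubgroup K := by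
        refine Subgroup.mem_inf.2 ⟨mul_mem (inv_mem h9.1) hnX.1,
          C.G.mem_H_of_nPerm_one (mul_mem (inv_mem h9.2.1) hnX.2.1) ?_⟩
        have := Good.NPerm.mul C.G (Good.NPerm.inv C.G h9.2.2) hnX.2.2
        rwa [inv_mul_cancel] at this
      obtain ⟨a, b, eab⟩ := H_form θ h3 hθ e9
      exact ⟨_, by rw [← eab]; group⟩
    rw [hy, show n9 θ * lv θ y * lv θ x * w = n9 θ * lv θ (y * x) * w by rw [map_mul]; group]
    by_cases h2 : (2 : Fx θ) = 0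
    · exact hit_nine_even θ h3 Cov hcov hθ h2 _ hwU
    · exact hit_nine_odd θ h3 Cov hcov hθ h2 _ hwU

omit hcov in
theorem exists_conj_not_mem {g : ↥(twistedD4 K q)} (hg : g ≠ 1) :
    ∃ g' : G, TConj q (g : G) g' ∧ g' ∉ PP θ h3 := by
  by_contra hne
  simp only [not_exists, not_and, not_not] at hne
  have := (TD4.summary2 hq hK).2.2.1
  have hle : Subgroup.normalClosure ({g} : Set ↥(twistedD4 K q)) ≤ (PP θ h3).subgroupOf (twistedD4 K q) := by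
    rw [Subgroup.normalClosure, Subgroup.closure_le]
    intro x hx
    obtain ⟨a, ha, hc⟩ := Group.mem_conjugatesOfSet_iff.1 hx
    rw [Set.mem_singleton_iff] at ha
    subst ha
    obtain ⟨c, rfl⟩ := isConj_iff.1 hc
    exact hne _ ⟨c, c.2, rfl⟩
  rcases (Subgroup.normalClosure_normal (s := ({g} : Set ↥(twistedD4 K q)))).eq_bot_or_eq_top with h | h
  · exact hg (Subgroup.mem_bot.1 (h ▸ Subgroup.subset_normalClosure rfl))
  · rw [h, top_le_iff] at hle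
    have h7 : n7 θ ∈ PP θ h3 :=
      (hle ▸ Subgroup.mem_top (⟨n7 θ, hB_mem θ h3 hθ _⟩ : ↥(twistedD4 K q)) :
        (⟨n7 θ, hB_mem θ h3 hθ _⟩ : ↥(twistedD4 K q)) ∈ (PP θ h3).subgroupOf (twistedD4 K q))
    obtain ⟨y, w, hw, e7⟩ := h7
    have hneg : negB θ (1 : K) ∈ UP θ h3 := by
      rw [negB_eq θ h3 hθ, e7, show lv θ y * w * rootB θ (-1) * (lv θ y * w)⁻¹ =
        lv θ y * (w * rootB θ (-1) * w⁻¹) * (lv θ y)⁻¹ by group]
      exact lv_conj_UP θ h3 y (mul_mem (mul_mem hw (rootB_mem_UP θ h3 _)) (inv_mem hw))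
    have hU : ∀ {u : G}, u ∈ UP θ h3 → u ∈ chevD4.posUnipotent K := by
      rintro _ ⟨r, c, v, ⟨d, z, ⟨e, f, -, -, rfl⟩, rfl⟩, rfl⟩
      unfold rootB rootC rootD u3
      repeat' apply mul_mem
      all_goals exact Mult.TD4Data.mem_U (by norm_num) (by norm_num) _
    have hV : negB θ (1 : K) ∈ chevD4.negUnipotent K := by
      have hn : ∀ r : Fin chevD4.nroots, r.val ∈ [5, 10, 11] → chevD4.IsNegRoot r.val := fun r hr => by
        rw [C.G.isNegRoot_iff_not_pos]; revert r; decide +kernel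
      rw [negB, X_eq 5 (rt_lt 5 (by norm_num)), X_eq 10 (rt_lt 10 (by norm_num)),
        X_eq 11 (rt_lt 11 (by norm_num))]
      exact mul_mem (mul_mem (C.G.xu_mem_V (hn _ (by simp)) _) (C.G.xu_mem_V (hn _ (by simp)) _))
        (C.G.xu_mem_V (hn _ (by simp)) _)
    have h1 := Subgroup.mem_bot.1 (C.G.U_inf_V_eq (K := K) ▸ Subgroup.mem_inf.2 ⟨hU hneg, hV⟩)
    rw [negB_eq θ h3 hθ, conj_eq_one_iff] at h1
    obtain ⟨h0, -⟩ := unique_six θ (r := -1) (w := 0) (c := 0) (d := 0) (e := 0) (f := 0)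
      (r' := 0) (w' := 0) (c' := 0) (d' := 0) (e' := 0) (f' := 0) (by
        rw [h1]; simp [rootB_zero, rootC_zero, rootD_zero, X_zero])
    simp at h0

theorem exists_conj_hit {g : ↥(twistedD4 K q)} (hg : g ≠ 1) :
    ∃ g', TConj q (g : G) g' ∧ Hit θ h3 Cov g' := by
  obtain ⟨g₁, hc, hnot⟩ := exists_conj_not_mem θ h3 hθ hq hK hg
  have hmem : g₁ ∈ twistedD4 K q := by
    obtain ⟨h, hh, rfl⟩ := hc
    exact mul_mem (mul_mem hh g.2) (inv_mem hh)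
  obtain ⟨g₂, hc2, hit⟩ := exists_hit θ h3 Cov hcov hθ hq hK hmem hnot
  exact ⟨g₂, hc.trans hc2, hit⟩

end CfsgLib.Lie.TD4Cover
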