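import Cfsg.Agent.Lib.Lie.Mult.TD4.Data
import Cfsg.Agent.Lib.Lie.Mult.TD4.Defining
import Cfsg.Agent.Lib.Lie.Chev.SL2Root

/-!
# `³D₄(q)`: the Levi subgroup of the central node and the homomorphism of the orbit of three nodes

An element of the Levi subgroup is given by a matrix `M` over the fixed field and a scalar `c` of norm `det M`.
-/

set_option autoImplicit false
set_option maxRecDepth 100000
set_option linter.unusedSectionVars false

namespace CfsgLib.Lie.TD4Cover

open Matrix Cfsg.Lie CfsgLib.Lie.Chev CfsgLib.Lie.SL2Rel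
open CfsgLib.Lie.Mult.TD4Coord (X X_eq X_zero)
open CfsgLib.Lie.Mult.TD4Rel
open TD4 (C rt nd)
open scoped MatrixGroups

variable {K : Type*} [Field K] (θ : K ≃+* K)

local notation "G" => GL chevD4.Idx K
local notation "S2" => Matrix.SpecialLinearGroup (Fin 2) K

/-- the fixed field -/
def Fx : Subfield K := θ.toRingHom.eqLocusField (RingHom.id K)

theorem mem_Fx {x : K} : x ∈ Fx θ ↔ θ x = x := Iff.rfl

theorem Fx_fix (x : Fx θ) : θ (x : K) = x := x.2

/-! ### The homomorphisms of the roots -/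

/-- the homomorphism of a root -/
noncomputable def rH (r : Fin chevD4.nroots) : S2 →* GL chevD4.Idx K :=
  (C.G.sl2Fam r).hom (C.G.sl2Fam_mult r)

theorem rH_upper (r : Fin chevD4.nroots) (t : K) : rH r (Fam.upper t) = C.G.xu r t := by
  rw [rH, Fam.hom_upper]; rfl

theorem rH_lower (r : Fin chevD4.nroots) (t : K) : rH r (Fam.lower t) = C.G.xu (C.G.negr r) t := by
  rw [rH, Fam.hom_lower]; rfl

/-- the diagonal matrix of determinant one -/
def dS {F : Type*} [Field F] (c : Fˣ) : Matrix.SpecialLinearGroup (Fin 2) F :=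
  ⟨!![(c : F), 0; 0, ((c⁻¹ : Fˣ) : F)], by simp [Matrix.det_fin_two]⟩

/-- the monomial matrix -/
def nS (F : Type*) [Field F] : Matrix.SpecialLinearGroup (Fin 2) F :=
  ⟨!![0, 1; -1, 0], by simp [Matrix.det_fin_two]⟩

theorem nS_eq (F : Type*) [Field F] : nS F = Fam.upper 1 * Fam.lower (-1) * Fam.upper 1 := by
  refine Subtype.ext ?_
  simp only [Matrix.SpecialLinearGroup.coe_mul]
  ext i j
  fin_cases i <;> fin_cases j <;> simp [nS, Fam.upper, Fam.lower, Matrix.mul_apply, Fin.sum_univ_two]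

theorem rH_dS (r : Fin chevD4.nroots) (c : Kˣ) : rH r (dS c) = C.G.hd r c := by
  show (C.G.sl2Fam r).val _ = _
  rw [Fam.val_eq_zero _ (a := (c : K)) (b := 0) rfl rfl rfl, zero_div, Fam.x_zero, mul_one]
  exact C.G.hE_eq r c

theorem rH_nS (r : Fin chevD4.nroots) : rH r (nS K) = C.G.nE r 1 := by
  rw [nS_eq, map_mul, map_mul, rH_upper, rH_lower, Good.nE, inv_one]

theorem commute_rH {r : Fin chevD4.nroots} {g : G}
    (h : ∀ t, Commute (C.G.xu r t) g ∧ Commute (C.G.xu (C.G.negr r) t) g) (S : S2) :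
    Commute (rH r S) g := by
  have hS : rH r S ∈ (rH (K := K) r).range := ⟨S, rfl⟩
  rw [rH, Fam.hom_range] at hS
  refine Subgroup.closure_induction ?_ (Commute.one_left g) (fun _ _ _ _ a b => a.mul_left b)
    (fun _ _ a => a.inv_left) hS
  rintro _ (⟨t, rfl⟩ | ⟨t, rfl⟩)
  exacts [(h t).1, (h t).2]

theorem rH_orth {r s : Fin chevD4.nroots} (h : C.Orth r s) (S S' : S2) : Commute (rH r S) (rH s S') :=
  commute_rH (fun t =>
    ⟨(commute_rH (fun u => ⟨(C.orth_commute h (by simp) (by simp) t u).symm,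
        (C.orth_commute h (by simp) (by simp) t u).symm⟩) S').symm,
      (commute_rH (fun u => ⟨(C.orth_commute h (by simp) (by simp) t u).symm,
        (C.orth_commute h (by simp) (by simp) t u).symm⟩) S').symm⟩) S

/-- a field automorphism on matrices of determinant one -/
noncomputable def sMap : S2 →* S2 := Matrix.SpecialLinearGroup.map θ.toRingHom

theorem sMap_apply (S : S2) (i j : Fin 2) : (sMap θ S).1 i j = θ (S.1 i j) := rfl

theorem sub_apply' (S : Matrix.SpecialLinearGroup (Fin 2) (Fx θ)) (i j : Fin 2) :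
    (Matrix.SpecialLinearGroup.map (Fx θ).subtype S).1 i j = (S.1 i j : K) := rfl

/-- the homomorphism of the orbit of three nodes -/
noncomputable def hB : S2 →* GL chevD4.Idx K :=
  MonoidHom.mk' (fun S => rH (rt 18) S * rH (rt 13) (sMap θ S) * rH (rt 12) (sMap θ (sMap θ S)))
    fun a b => by
      obtain ⟨o1, o2, o3⟩ := TD4.orth_135
      simp only [map_mul]
      have c1 := rH_orth o1 (K := K) b (sMap θ a)
      have c2 := rH_orth o2 (K := K) b (sMap θ (sMap θ a))
      have c3 := rH_orth o3 (K := K) (sMap θ b) (sMap θ (sMap θ a))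
      calc rH (rt 18) a * rH (rt 18) b * (rH (rt 13) (sMap θ a) * rH (rt 13) (sMap θ b)) *
            (rH (rt 12) (sMap θ (sMap θ a)) * rH (rt 12) (sMap θ (sMap θ b)))
          = rH (rt 18) a * (rH (rt 18) b * rH (rt 13) (sMap θ a)) *
            (rH (rt 13) (sMap θ b) * rH (rt 12) (sMap θ (sMap θ a))) * rH (rt 12) (sMap θ (sMap θ b)) := by
            group
        _ = rH (rt 18) a * rH (rt 13) (sMap θ a) * (rH (rt 18) b * rH (rt 12) (sMap θ (sMap θ a))) *
            rH (rt 13) (sMap θ b) * rH (rt 12) (sMap θ (sMap θ b)) := by rw [c1.eq, c3.eq]; group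
        _ = _ := by rw [c2.eq]; group

/-- the negative short simple root -/
noncomputable def negB (y : K) : GL chevD4.Idx K := X 5 y * X 10 (θ y) * X 11 (θ (θ y))

theorem X_rt (r : ℕ) (h : r < chevD4.nroots) (t : K) : C.G.xu (rt r h) t = X r t := (X_eq r h t).symm

theorem hB_upper (t : K) : hB θ (Fam.upper t) = rootB θ t := by
  have e : ∀ s : K, sMap θ (Fam.upper s) = Fam.upper (θ s) := fun s => Subtype.ext (by
    ext i j; rw [sMap_apply]; fin_cases i <;> fin_cases j <;> simp [Fam.upper])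
  show rH _ _ * rH _ _ * rH _ _ = _
  rw [e, e, rH_upper, rH_upper, rH_upper, X_rt, X_rt, X_rt, rootB]

theorem hB_lower (t : K) : hB θ (Fam.lower t) = negB θ t := by
  have e : ∀ s : K, sMap θ (Fam.lower s) = Fam.lower (θ s) := fun s => Subtype.ext (by
    ext i j; rw [sMap_apply]; fin_cases i <;> fin_cases j <;> simp [Fam.lower])
  obtain ⟨n1, n2, n3, -⟩ := TD4.negr_rt
  show rH _ _ * rH _ _ * rH _ _ = _
  rw [e, e, rH_lower, rH_lower, rH_lower, n1, n2, n3, X_rt, X_rt, X_rt, negB]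

/-! ### The torus and the homomorphism of the central node -/

theorem par_mul (a b a' b' : Kˣ) : TD4.par θ (a * a') (b * b') = TD4.par θ a b * TD4.par θ a' b' := by
  funext j
  simp only [TD4.par, Pi.mul_apply, map_mul]
  split_ifs <;> rfl

theorem par_one : TD4.par θ (1 : Kˣ) 1 = 1 := by
  funext j
  simp [TD4.par]

/-- the torus of the orbit of three nodes -/
noncomputable def T : Kˣ →* GL chevD4.Idx K :=
  C.G.torθ.comp (MonoidHom.mk' (fun b => TD4.par θ 1 b) fun a b => by rw [← par_mul, one_mul])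

theorem T_eq (b : Kˣ) : T θ b = C.G.torθ (TD4.par θ 1 b) := rfl

theorem T_hd (b : Kˣ) : T θ b = C.G.hd (rt 18) b * C.G.hd (rt 13) (Units.map θ.toMonoidHom b) *
    C.G.hd (rt 12) (Units.map θ.toMonoidHom (Units.map θ.toMonoidHom b)) := by
  rw [T_eq, TD4.hd_par, map_one, one_mul]

theorem hB_dS (b : Kˣ) : hB θ (dS b) = T θ b := by
  have e : ∀ b : Kˣ, sMap θ (dS b) = dS (Units.map θ.toMonoidHom b) := fun b => Subtype.ext (by
    ext i j; rw [sMap_apply]; fin_cases i <;> fin_cases j <;> simp [dS])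
  show rH _ _ * rH _ _ * rH _ _ = _
  rw [e, e, rH_dS, rH_dS, rH_dS, T_hd]

/-- the homomorphism of the central node -/
noncomputable def gl : Matrix.SpecialLinearGroup (Fin 2) (Fx θ) →* GL chevD4.Idx K :=
  (rH (rt 14)).comp (Matrix.SpecialLinearGroup.map (Fx θ).subtype)

theorem gl_upper (t : Fx θ) : gl θ (Fam.upper t) = X 14 (t : K) := by
  have e : Matrix.SpecialLinearGroup.map (Fx θ).subtype (Fam.upper t) = Fam.upper (t : K) := Subtype.ext (by
    ext i j; rw [sub_apply']; fin_cases i <;> fin_cases j <;> simp [Fam.upper])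
  rw [gl, MonoidHom.comp_apply, e, rH_upper, X_rt]

theorem gl_lower (t : Fx θ) : gl θ (Fam.lower t) = X 9 (t : K) := by
  have e : Matrix.SpecialLinearGroup.map (Fx θ).subtype (Fam.lower t) = Fam.lower (t : K) := Subtype.ext (by
    ext i j; rw [sub_apply']; fin_cases i <;> fin_cases j <;> simp [Fam.lower])
  rw [gl, MonoidHom.comp_apply, e, rH_lower, (TD4.negr_rt).2.2.2, X_rt]

theorem gl_dS (a : (Fx θ)ˣ) :
    gl θ (dS a) = C.G.torθ (TD4.par θ (Units.map (Fx θ).subtype.toMonoidHom a) 1) := by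
  have e : Matrix.SpecialLinearGroup.map (Fx θ).subtype (dS a) =
      dS (Units.map (Fx θ).subtype.toMonoidHom a) := Subtype.ext (by
    ext i j; rw [sub_apply']; fin_cases i <;> fin_cases j <;> simp [dS])
  rw [gl, MonoidHom.comp_apply, e, rH_dS, TD4.hd_par]
  simp [C.G.hd_eq_torθ, Pi.one_def, ← Pi.one_def]

theorem gl_induction {P : Matrix.SpecialLinearGroup (Fin 2) (Fx θ) → Prop}
    (hmul : ∀ a b, P a → P b → P (a * b)) (hu : ∀ t, P (Fam.upper t)) (hn : P (nS (Fx θ))) :
    ∀ S, P S := by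
  refine Fam.mem_gens hmul hu ?_
  have : (Fam.wel : Matrix.SpecialLinearGroup (Fin 2) (Fx θ)) = nS _ * nS _ * nS _ := by
    refine Subtype.ext ?_
    simp only [Matrix.SpecialLinearGroup.coe_mul]
    ext i j
    fin_cases i <;> fin_cases j <;> simp [nS, Fam.wel, Matrix.mul_apply, Fin.sum_univ_two]
  rw [this]
  exact hmul _ _ (hmul _ _ hn hn) hn

/-- the norm -/
def N (c : K) : K := c * θ c * θ (θ c)

/-- conjugation by the diagonal matrix with entries `d`, one -/
def cd {F : Type*} [Field F] (d : Fˣ) (S : Matrix.SpecialLinearGroup (Fin 2) F) :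
    Matrix.SpecialLinearGroup (Fin 2) F :=
  ⟨!![S.1 0 0, (d : F) * S.1 0 1; ((d⁻¹ : Fˣ) : F) * S.1 1 0, S.1 1 1], by
    have h := S.2
    rw [Matrix.det_fin_two] at h
    simp [Matrix.det_fin_two]
    have := d.ne_zero
    field_simp
    linear_combination h⟩

theorem cd_mul {F : Type*} [Field F] (d : Fˣ) (S S' : Matrix.SpecialLinearGroup (Fin 2) F) :
    cd d (S * S') = cd d S * cd d S' := by
  refine Subtype.ext ?_
  simp only [val_mul']
  unfold cd
  simp only [val_mul']
  have := d.ne_zero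
  ext i j
  fin_cases i <;> fin_cases j <;> simp [Matrix.mul_apply, Fin.sum_univ_two] <;> field_simp

variable (h3 : ∀ t : K, θ (θ (θ t)) = t)

theorem tor_gl_roots (b : Kˣ) (t : K) :
    T θ b * X 14 t * (T θ b)⁻¹ = X 14 ((N θ (b : K))⁻¹ * t) ∧
      T θ b * X 9 t * (T θ b)⁻¹ = X 9 (N θ (b : K) * t) := by
  rw [T_eq, Mult.TD4Data.tor_X θ (r := 14) (by decide +kernel) (-1) 2 (-1) (-1) (by decide +kernel),
    Mult.TD4Data.tor_X θ (r := 9) (by decide +kernel) 1 (-2) 1 1 (by decide +kernel)]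
  constructor <;> congr 1 <;> simp [N] <;> try (left; ring)

theorem T_gl (b : Kˣ) (d : (Fx θ)ˣ) (hd : ((d : Fx θ) : K) * N θ (b : K) = 1)
    (S : Matrix.SpecialLinearGroup (Fin 2) (Fx θ)) :
    T θ b * gl θ S * (T θ b)⁻¹ = gl θ (cd d S) := by
  have hd' : N θ (b : K) = ((d⁻¹ : (Fx θ)ˣ) : Fx θ) := by
    rw [Units.val_inv_eq_inv_val]
    push_cast
    exact eq_inv_of_mul_eq_one_right hd
  have hd'' : (N θ (b : K))⁻¹ = ((d : Fx θ) : K) := inv_eq_of_mul_eq_one_left hd
  refine Fam.mem_gens (P := fun S => T θ b * gl θ S * (T θ b)⁻¹ = gl θ (cd d S)) ?_ ?_ ?_ S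
  · intro S S' hS hS'
    rw [cd_mul, map_mul, map_mul, ← hS, ← hS']
    group
  · intro t
    rw [show cd d (Fam.upper t) = Fam.upper ((d : Fx θ) * t) from Subtype.ext (by
      ext i j; fin_cases i <;> fin_cases j <;> simp [cd, Fam.upper]), gl_upper, gl_upper,
      (tor_gl_roots θ b _).1, hd'']
    rfl
  · have e : (Fam.wel : Matrix.SpecialLinearGroup (Fin 2) (Fx θ)) =
        Fam.upper (-1) * Fam.lower 1 * Fam.upper (-1) := by
      refine Subtype.ext ?_
      simp only [Matrix.SpecialLinearGroup.coe_mul]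
      ext i j
      fin_cases i <;> fin_cases j <;> simp [Fam.wel, Fam.upper, Fam.lower, Matrix.mul_apply, Fin.sum_univ_two]
    have hu : ∀ t, T θ b * gl θ (Fam.upper t) * (T θ b)⁻¹ = gl θ (cd d (Fam.upper t)) := fun t => by
      rw [show cd d (Fam.upper t) = Fam.upper ((d : Fx θ) * t) from Subtype.ext (by
        ext i j; fin_cases i <;> fin_cases j <;> simp [cd, Fam.upper]), gl_upper, gl_upper,
        (tor_gl_roots θ b _).1, hd'']
      rfl
    have hl : ∀ t, T θ b * gl θ (Fam.lower t) * (T θ b)⁻¹ = gl θ (cd d (Fam.lower t)) := fun t => by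
      rw [show cd d (Fam.lower t) = Fam.lower (((d⁻¹ : (Fx θ)ˣ) : Fx θ) * t) from Subtype.ext (by
        ext i j; fin_cases i <;> fin_cases j <;> simp [cd, Fam.lower]), gl_lower, gl_lower,
        (tor_gl_roots θ b _).2, hd']
      rfl
    rw [e, cd_mul, cd_mul, map_mul, map_mul, map_mul, map_mul, ← hu, ← hl]
    group

/-- the Levi subgroup as pairs -/
def Lgp : Subgroup (GL (Fin 2) (Fx θ) × Kˣ) where
  carrier := {x | ((x.1.1.det : Fx θ) : K) = N θ (x.2 : K)}
  one_mem' := by simp [N]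
  mul_mem' {x y} hx hy := by
    simp only [Set.mem_ofPred_eq] at hx hy ⊢
    rw [Prod.fst_mul, Prod.snd_mul, Units.val_mul, Units.val_mul, Matrix.det_mul]
    simp only [MulMemClass.coe_mul, hx, hy, N, map_mul]
    ring
  inv_mem' {x} hx := by
    simp only [Set.mem_ofPred_eq] at hx ⊢
    rw [Prod.fst_inv, Prod.snd_inv, Matrix.coe_units_inv, Matrix.det_nonsing_inv, Ring.inverse_eq_inv']
    simp [hx, N, mul_inv, mul_comm]

theorem det_ne {F : Type*} [Field F] (M : GL (Fin 2) F) : M.1.det ≠ 0 :=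
  (Matrix.GeneralLinearGroup.det M).ne_zero

/-- the part of determinant one -/
def sOf {F : Type*} [Field F] (M : GL (Fin 2) F) : Matrix.SpecialLinearGroup (Fin 2) F :=
  ⟨!![M.1 0 0 / M.1.det, M.1 0 1; M.1 1 0 / M.1.det, M.1 1 1], by
    have h := det_ne M
    rw [Matrix.det_fin_two] at h ⊢
    simp
    field_simp
    rw [Matrix.det_fin_two]
    exact div_self h⟩

theorem sOf_mul {F : Type*} [Field F] (M M' : GL (Fin 2) F) :
    sOf (M * M') = sOf M * cd (Matrix.GeneralLinearGroup.det M) (sOf M') := by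
  refine Subtype.ext ?_
  simp only [val_mul']
  unfold sOf cd
  simp only [Units.val_mul, Matrix.det_mul]
  have := det_ne M
  have := det_ne M'
  ext i j
  fin_cases i <;> fin_cases j <;>
    simp [Matrix.mul_apply, Fin.sum_univ_two, Matrix.GeneralLinearGroup.val_det_apply] <;> field_simp

/-- the homomorphism onto the Levi subgroup -/
noncomputable def lv : ↥(Lgp θ) →* GL chevD4.Idx K :=
  MonoidHom.mk' (fun x => gl θ (sOf x.1.1) * T θ (x.1.2)⁻¹) fun x y => by
    have hx : ((Matrix.GeneralLinearGroup.det x.1.1 : Fx θ) : K) * N θ (((x.1.2)⁻¹ : Kˣ) : K) = 1 := by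
      rw [Matrix.GeneralLinearGroup.val_det_apply, x.2]
      have := (x.1.2).ne_zero
      have h1 : θ (x.1.2 : K) ≠ 0 := fun e => this (θ.injective (e.trans (map_zero θ).symm))
      have h2 : θ (θ (x.1.2 : K)) ≠ 0 := fun e => h1 (θ.injective (e.trans (map_zero θ).symm))
      simp [N]
      field_simp
    show gl θ (sOf (x.1.1 * y.1.1)) * T θ (x.1.2 * y.1.2)⁻¹ = _
    rw [sOf_mul, map_mul, ← T_gl θ _ _ hx, _root_.mul_inv, map_mul]
    group

theorem lv_apply (x : ↥(Lgp θ)) : lv θ x = gl θ (sOf x.1.1) * T θ (x.1.2)⁻¹ := rfl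

/-- an element of determinant one in the Levi subgroup -/
def ofS (S : Matrix.SpecialLinearGroup (Fin 2) (Fx θ)) : ↥(Lgp θ) :=
  ⟨(Matrix.SpecialLinearGroup.toGL S, 1), by
    show ((S.1.det : Fx θ) : K) = _
    rw [S.2]; simp [N]⟩

theorem lv_ofS (S : Matrix.SpecialLinearGroup (Fin 2) (Fx θ)) : lv θ (ofS θ S) = gl θ S := by
  have : sOf (Matrix.SpecialLinearGroup.toGL S) = S := by
    refine Subtype.ext ?_
    have h : (Matrix.SpecialLinearGroup.toGL S).1 = S.1 := rfl
    simp only [sOf, h, S.2, div_one]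
    exact (Matrix.eta_fin_two _).symm
  show gl θ (sOf (Matrix.SpecialLinearGroup.toGL S)) * T θ (1 : Kˣ)⁻¹ = _
  rw [this, inv_one, map_one, mul_one]

/-! ### Membership in the twisted group -/

variable {q : ℕ} (hθ : ∀ x, θ x = x ^ q)

include h3 hθ

theorem T_mem (b : Kˣ) : T θ b ∈ twistedD4 K q :=
  Mult.TD4Data.fixed_tor θ hθ h3 (by simp)

theorem rootB_mem (t : K) : rootB θ t ∈ twistedD4 K q :=
  (Mult.TD4Data.mem_iff θ hθ h3).2 (rootB_fix θ h3 t)

theorem rootC_mem (t : K) : rootC θ t ∈ twistedD4 K q :=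
  (Mult.TD4Data.mem_iff θ hθ h3).2 (rootC_fix θ h3 t)

theorem rootD_mem (t : K) : rootD θ t ∈ twistedD4 K q :=
  (Mult.TD4Data.mem_iff θ hθ h3).2 (rootD_fix θ h3 t)

theorem negB_mem (t : K) : negB θ t ∈ twistedD4 K q := by
  have h := (TD4.triple_mem θ hθ).2 t
  rwa [TD4.x3, X_rt, X_rt, X_rt] at h

theorem hB_mem (S : S2) : hB θ S ∈ twistedD4 K q := by
  refine Fam.mem_gens (P := fun S => hB θ S ∈ twistedD4 K q) (fun a b ha hb => ?_) (fun t => ?_) ?_ S
  · rw [map_mul]; exact mul_mem ha hb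
  · rw [hB_upper]; exact rootB_mem θ h3 hθ t
  · have e : (Fam.wel : S2) = Fam.upper (-1) * Fam.lower 1 * Fam.upper (-1) := by
      refine Subtype.ext ?_
      simp only [Matrix.SpecialLinearGroup.coe_mul]
      ext i j
      fin_cases i <;> fin_cases j <;> simp [Fam.wel, Fam.upper, Fam.lower, Matrix.mul_apply, Fin.sum_univ_two]
    rw [e, map_mul, map_mul, hB_upper, hB_lower]
    exact mul_mem (mul_mem (rootB_mem θ h3 hθ _) (negB_mem θ h3 hθ _)) (rootB_mem θ h3 hθ _)

theorem gl_mem (S : Matrix.SpecialLinearGroup (Fin 2) (Fx θ)) : gl θ S ∈ twistedD4 K q := by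
  have hu : ∀ t, gl θ (Fam.upper t) ∈ twistedD4 K q := fun t => by
    rw [gl_upper, X_eq 14 (by decide +kernel)]
    exact (TD4.single_mem θ hθ (Fx_fix θ t)).1
  refine gl_induction θ (P := fun S => gl θ S ∈ twistedD4 K q) (fun a b ha hb => ?_) hu ?_ S
  · rw [map_mul]; exact mul_mem ha hb
  · rw [nS_eq, map_mul, map_mul]
    refine mul_mem (mul_mem (hu _) ?_) (hu _)
    rw [gl_lower, X_eq 9 (by decide +kernel)]
    exact (TD4.single_mem θ hθ (Fx_fix θ _)).2

theorem lv_mem (x : ↥(Lgp θ)) : lv θ x ∈ twistedD4 K q :=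
  mul_mem (gl_mem θ h3 hθ _) (T_mem θ h3 hθ _)

end CfsgLib.Lie.TD4Cover
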