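import Cfsg.Agent.Lib.Lie.TD4Cover.Hit
import Cfsg.Agent.Lib.Lie.G2Cover.Two

/-!
# Every non-identity element of `³D₄(q)` is a product of two conjugates of one element of the Levi subgroup
-/

set_option autoImplicit false
set_option maxRecDepth 100000
set_option linter.unusedSectionVars false

namespace CfsgLib.Lie.TD4Cover

open Matrix Cfsg.Lie CfsgLib.Lie.Chev CfsgLib.Lie.SL2Rel
open CfsgLib.Lie.Mult.TD4Coord (X X_eq X_zero merge_last swap_zero)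
open CfsgLib.Lie.Mult.TD4Rel
open CfsgLib.SpFourCover (Sim NS sim_of_eq isUnit_of_ne Par)
open TD4 (C rt nd)
open scoped MatrixGroups commutatorElement

variable {K : Type*} [Field K] (θ : K ≃+* K) (h3 : ∀ t : K, θ (θ (θ t)) = t) {q : ℕ}

local notation "G" => GL chevD4.Idx K

theorem sim_invariants {F : Type*} [Field F] {M B : Matrix (Fin 2) (Fin 2) F} (h : Sim M B) :
    M.det = B.det ∧ M.trace = B.trace := by
  obtain ⟨R, hR, e⟩ := h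
  have hu := isUnit_of_ne hR
  rw [Sim.eq_conj hR e]
  refine ⟨?_, ?_⟩
  · rw [det_mul, det_mul, mul_comm, ← mul_assoc, ← det_mul, nonsing_inv_mul R hu, det_one, one_mul]
  · rw [trace_mul_comm, ← Matrix.mul_assoc, nonsing_inv_mul R hu, Matrix.one_mul]

theorem inv_invariants {F : Type*} [Field F] (M : GL (Fin 2) F) :
    M.1⁻¹.det = M.1.det⁻¹ ∧ M.1⁻¹.trace = M.1.trace / M.1.det := by
  refine ⟨by rw [Matrix.det_nonsing_inv, Ring.inverse_eq_inv'], ?_⟩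
  rw [Matrix.inv_def, Ring.inverse_eq_inv', Matrix.adjugate_fin_two, Matrix.trace_smul, smul_eq_mul]
  simp [Matrix.trace_fin_two]
  ring

theorem ns_of_irr {M : Matrix (Fin 2) (Fin 2) (Fx θ)}
    (h : ∀ r : K, r * r - (M.trace : K) * r + (M.det : K) ≠ 0) : NS M := by
  by_contra hns
  simp only [NS, not_or, not_not] at hns
  obtain ⟨e01, e10, e00⟩ := hns
  refine h (M 0 0 : K) ?_
  rw [Matrix.trace_fin_two, Matrix.det_fin_two, e01, e10, ← e00]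
  push_cast
  ring

theorem FixFree.congr {x y : ↥(Lgp θ)} (h : FixFree θ x) (hd : y.1.1.1.det = x.1.1.1.det)
    (ht : y.1.1.1.trace = x.1.1.1.trace) (hc : y.1.2 = x.1.2) : FixFree θ y :=
  ⟨fun r => by rw [hd, ht]; exact h.1 r, by rw [hc]; exact h.2⟩

theorem FixFree.congr_inv {x y : ↥(Lgp θ)} (h : FixFree θ x) (hd : y.1.1.1.det = x.1.1.1.det⁻¹)
    (ht : y.1.1.1.trace = x.1.1.1.trace / x.1.1.1.det) (hc : y.1.2 = x.1.2⁻¹) : FixFree θ y := by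
  have hd0 : ((x.1.1.1.det : Fx θ) : K) ≠ 0 := fun e => det_ne x.1.1 (Subtype.ext e)
  refine ⟨fun r e => h.1 (r * (x.1.1.1.det : K)) ?_, fun e => h.2 ?_⟩
  · rw [hd, ht] at e
    push_cast at e
    field_simp at e
    linear_combination (x.1.1.1.det : K) * e
  · rw [hc, Units.val_inv_eq_inv_val, map_inv₀, map_inv₀, ← _root_.mul_inv] at e
    exact inv_injective e

theorem dS_inv {F : Type*} [Field F] (a : Fˣ) :
    (dS a⁻¹ : Matrix.SpecialLinearGroup (Fin 2) F) = (dS a)⁻¹ := by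
  refine Subtype.ext ?_
  rw [Matrix.SpecialLinearGroup.coe_inv]
  ext i j
  fin_cases i <;> fin_cases j <;> simp [dS, Matrix.adjugate_fin_two]

variable (hθ : ∀ x, θ x = x ^ q)

include h3 hθ

theorem conj_mul_left [Fintype K] {x : ↥(Lgp θ)} (hx : FixFree θ x) {u : G} (hu : u ∈ UP θ h3) :
    TConj q (lv θ x) (u * lv θ x) := by
  let f : ↥(UP θ h3) → ↥(UP θ h3) := fun w =>
    ⟨w.1 * (lv θ x * w.1⁻¹ * (lv θ x)⁻¹), mul_mem w.2 (lv_conj_UP θ h3 x (inv_mem w.2))⟩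
  have hf : Function.Injective f := by
    intro a b h
    have h' : a.1 * (lv θ x * a.1⁻¹ * (lv θ x)⁻¹) = b.1 * (lv θ x * b.1⁻¹ * (lv θ x)⁻¹) := congrArg Subtype.val h
    have e : lv θ x * (b.1⁻¹ * a.1) * (lv θ x)⁻¹ = b.1⁻¹ * a.1 := by
      calc lv θ x * (b.1⁻¹ * a.1) * (lv θ x)⁻¹
          = b.1⁻¹ * (b.1 * (lv θ x * b.1⁻¹ * (lv θ x)⁻¹)) * (lv θ x * a.1⁻¹ * (lv θ x)⁻¹)⁻¹ := by group
        _ = b.1⁻¹ * a.1 := by rw [← h']; group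
    have := eq_one_of_commute θ h3 hx (mul_mem (inv_mem b.2) a.2) e
    exact Subtype.ext (inv_mul_eq_one.1 this).symm
  obtain ⟨w, hw⟩ := Finite.injective_iff_surjective.1 hf ⟨u, hu⟩
  refine ⟨w.1, UP_le θ h3 hθ w.2, ?_⟩
  have : w.1 * (lv θ x * w.1⁻¹ * (lv θ x)⁻¹) = u := congrArg Subtype.val hw
  rw [← this]; group

/-- the automorphism induced by `n9` -/
noncomputable def thetaL (x : ↥(Lgp θ)) : ↥(Lgp θ) :=
  ofS θ (sOf x.1.1) * hEl θ h3 (nm θ h3 x.1.2) x.1.2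

theorem n9_conj (S : Matrix.SpecialLinearGroup (Fin 2) (Fx θ)) (b : Kˣ) :
    n9 θ * (gl θ S * T θ b⁻¹) * (n9 θ)⁻¹ = gl θ S * (gl θ (dS (nm θ h3 b)) * T θ b) := by
  have e7 : ∀ c : Kˣ, (n7 θ)⁻¹ * T θ c * n7 θ = T θ c⁻¹ := fun c => by
    rw [show T θ c = n7 θ * T θ c⁻¹ * (n7 θ)⁻¹ by rw [n7_T θ h3, inv_inv]]; group
  have e6 : ∀ c : Kˣ, (n6 θ)⁻¹ * T θ c * n6 θ = gl θ (dS (nm θ h3 c)) * T θ c := fun c => by
    have h1 := n6_T θ h3 c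
    have h2 := n6_dS θ h3 (nm θ h3 c)
    rw [show (n6 θ)⁻¹ * T θ c * n6 θ =
      (n6 θ)⁻¹ * (T θ c * gl θ (dS (nm θ h3 c))) * n6 θ * ((n6 θ)⁻¹ * gl θ (dS (nm θ h3 c)) * n6 θ)⁻¹ by group, ← h1,
      show (n6 θ)⁻¹ * gl θ (dS (nm θ h3 c)) * n6 θ = gl θ (dS (nm θ h3 c)⁻¹) by
        have := n6_dS θ h3 (nm θ h3 c)⁻¹
        rw [inv_inv] at this
        rw [← this]; group]
    rw [← (T_dS θ h3 c _).eq, dS_inv, map_inv, inv_inv]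
    group
  have key : n9 θ * T θ b⁻¹ * (n9 θ)⁻¹ = gl θ (dS (nm θ h3 b)) * T θ b := by
    have step7 : ∀ (a : (Fx θ)ˣ) (c : Kˣ), n7 θ * (gl θ (dS a) * T θ c) * (n7 θ)⁻¹ =
        gl θ (dS a) * T θ (inK θ a * c⁻¹) := fun a c => by
      rw [show n7 θ * (gl θ (dS a) * T θ c) * (n7 θ)⁻¹ =
        n7 θ * gl θ (dS a) * (n7 θ)⁻¹ * (n7 θ * T θ c * (n7 θ)⁻¹) by group, n7_dS θ h3, n7_T θ h3, mul_assoc,
        ← map_mul]
    have step6 : ∀ (a : (Fx θ)ˣ) (c : Kˣ), n6 θ * (gl θ (dS a) * T θ c) * (n6 θ)⁻¹ =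
        gl θ (dS a⁻¹ * dS (nm θ h3 c)) * T θ c := fun a c => by
      rw [show n6 θ * (gl θ (dS a) * T θ c) * (n6 θ)⁻¹ =
        n6 θ * gl θ (dS a) * (n6 θ)⁻¹ * (n6 θ * T θ c * (n6 θ)⁻¹) by group, n6_dS θ h3, n6_T θ h3,
        (T_dS θ h3 c _).eq, ← mul_assoc, ← map_mul]
    have en : nm θ h3 (inK θ (nm θ h3 b) * b⁻¹) = (nm θ h3 b) ^ 2 := by
      rw [nm_mul θ h3, nm_inv θ h3, nm_inK θ h3, pow_succ (nm θ h3 b) 2, mul_inv_cancel_right]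
    have ed : (dS (nm θ h3 b)⁻¹ * dS ((nm θ h3 b) ^ 2) : Matrix.SpecialLinearGroup (Fin 2) (Fx θ)) =
        dS (nm θ h3 b) := by
      refine Subtype.ext ?_
      simp only [Matrix.SpecialLinearGroup.coe_mul]
      have := (nm θ h3 b).ne_zero
      ext i j
      fin_cases i <;> fin_cases j <;> simp [dS, Matrix.mul_apply, Fin.sum_univ_two] <;> field_simp
    rw [n9, hh, show n7 θ * n6 θ * n7 θ * (n7 θ * n6 θ)⁻¹ * T θ b⁻¹ * (n7 θ * n6 θ * n7 θ * (n7 θ * n6 θ)⁻¹)⁻¹ =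
      n7 θ * (n6 θ * (n7 θ * ((n6 θ)⁻¹ * ((n7 θ)⁻¹ * T θ b⁻¹ * n7 θ) * n6 θ) * (n7 θ)⁻¹) * (n6 θ)⁻¹) * (n7 θ)⁻¹
      by group, e7, inv_inv, e6, step7, step6, en, ed, step7, _root_.mul_inv, inv_inv, mul_inv_cancel_left]
  rw [show n9 θ * (gl θ S * T θ b⁻¹) * (n9 θ)⁻¹ = n9 θ * gl θ S * (n9 θ)⁻¹ * (n9 θ * T θ b⁻¹ * (n9 θ)⁻¹) by group,
    (n9_gl θ h3 hθ S).eq, mul_inv_cancel_right, key]

theorem n9_lv (x : ↥(Lgp θ)) : n9 θ * lv θ x * (n9 θ)⁻¹ = lv θ (thetaL θ h3 x) := by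
  rw [lv_apply, n9_conj θ h3 hθ, thetaL, map_mul, lv_ofS, lv_hEl]

omit hθ in
theorem thetaL_snd (x : ↥(Lgp θ)) : (thetaL θ h3 x).1.2 = x.1.2⁻¹ := by
  show 1 * (1 * x.1.2⁻¹) = _
  rw [one_mul, one_mul]

theorem thetaL_mat (x : ↥(Lgp θ)) : (thetaL θ h3 x).1.1.1 = x.1.1.1.det⁻¹ • x.1.1.1 := by
  show (sOf x.1.1).1 * (hEl θ h3 (nm θ h3 x.1.2) x.1.2).1.1.1 = _
  rw [hEl_mat θ h3]
  have hn : ((nm θ h3 x.1.2 : (Fx θ)ˣ) : Fx θ) = x.1.1.1.det := Subtype.ext x.2.symm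
  rw [hn]
  have := det_ne x.1.1
  ext i j
  fin_cases i <;> fin_cases j <;> simp [sOf, Matrix.mul_apply, Fin.sum_univ_two] <;> field_simp

theorem thetaL_invariants (x : ↥(Lgp θ)) : (thetaL θ h3 x).1.1.1.det = x.1.1.1.det⁻¹ ∧
    (thetaL θ h3 x).1.1.1.trace = x.1.1.1.trace / x.1.1.1.det := by
  have := det_ne x.1.1
  rw [thetaL_mat θ h3 hθ, Matrix.det_smul, Matrix.trace_smul, Fintype.card_fin, smul_eq_mul]
  constructor <;> field_simp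

theorem thetaL_thetaL (x : ↥(Lgp θ)) : thetaL θ h3 (thetaL θ h3 x) = x := by
  refine Subtype.ext (Prod.ext (Units.ext ?_) ?_)
  · rw [thetaL_mat θ h3 hθ, (thetaL_invariants θ h3 hθ x).1, thetaL_mat θ h3 hθ, smul_smul, inv_inv,
      mul_inv_cancel₀ (det_ne x.1.1), one_smul]
  · rw [thetaL_snd, thetaL_snd, inv_inv]

theorem conj_right [Fintype K] {x : ↥(Lgp θ)} (hx : FixFree θ x) {u : G} (hu : u ∈ UP θ h3) :
    TConj q (lv θ x) (lv θ x * u) :=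
  (conj_mul_left θ h3 hθ hx hu).trans ⟨lv θ x, lv_mem θ h3 hθ x, by group⟩

theorem conj_opp [Fintype K] {x : ↥(Lgp θ)} (hx : FixFree θ x) {v : G} (hv : v ∈ VN θ h3) :
    TConj q (lv θ x) (v * lv θ x) := by
  rw [mem_VN] at hv
  have hx' : FixFree θ (thetaL θ h3 x) :=
    hx.congr_inv θ (thetaL_invariants θ h3 hθ x).1 (thetaL_invariants θ h3 hθ x).2 (thetaL_snd θ h3 x)
  have hn9 : n9 θ ∈ twistedD4 K q := (Mult.TD4Data.mem_iff θ hθ h3).2 (mon_n9 θ h3 hθ).1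
  have h1 : TConj q (lv θ x) (lv θ (thetaL θ h3 x)) := ⟨n9 θ, hn9, n9_lv θ h3 hθ x⟩
  have h2 := n9_lv θ h3 hθ (thetaL θ h3 x)
  rw [thetaL_thetaL θ h3 hθ] at h2
  exact (h1.trans (conj_mul_left θ h3 hθ hx' hv)).trans ⟨n9 θ, hn9, by rw [← h2]; group⟩

variable (hnorm : ∀ d : Fx θ, d ≠ 0 → ∃ c : Kˣ, N θ (c : K) = d)

include hnorm

theorem conj_sim {x y : ↥(Lgp θ)} (hc : y.1.2 = x.1.2) (h : Sim y.1.1.1 x.1.1.1) :
    TConj q (lv θ x) (lv θ y) := by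
  obtain ⟨R, hR, e⟩ := h
  obtain ⟨c, hcR⟩ := hnorm R.det hR
  let r : ↥(Lgp θ) := ⟨(Matrix.GeneralLinearGroup.mkOfDetNeZero R hR, c), hcR.symm⟩
  refine ⟨lv θ r, lv_mem θ h3 hθ r, ?_⟩
  rw [← map_mul, ← map_inv, ← map_mul]
  congr 1
  rw [mul_inv_eq_iff_eq_mul]
  refine Subtype.ext (Prod.ext (Units.ext ?_) ?_)
  · exact e.symm
  · show c * x.1.2 = y.1.2 * c
    rw [hc, mul_comm]

variable (x₀ : ↥(Lgp θ)) (hx₀ : FixFree θ x₀)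

omit h3 hθ hnorm in
/-- covered matrices -/
def CovS (N' : Matrix (Fin 2) (Fin 2) (Fx θ)) : Prop :=
  ∃ A₁ A₂ : Matrix (Fin 2) (Fin 2) (Fx θ), N' = A₁ * A₂ ∧ Sim A₁ x₀.1.1.1 ∧
    (Sim A₂ x₀.1.1.1⁻¹ ∨ (Sim A₂ x₀.1.1.1 ∧ x₀.1.2 * x₀.1.2 = 1))

include hx₀

theorem conj_inv [Fintype K] {y : ↥(Lgp θ)} (hc : y.1.2 = x₀.1.2⁻¹) (h : Sim y.1.1.1 x₀.1.1.1⁻¹) :
    TConj q (lv θ x₀) (lv θ y) ∧ FixFree θ y := by
  obtain ⟨hd, ht⟩ := sim_invariants h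
  obtain ⟨id, it⟩ := inv_invariants x₀.1.1
  rw [id] at hd
  rw [it] at ht
  have hy : FixFree θ y := hx₀.congr_inv θ hd ht hc
  refine ⟨?_, hy⟩
  have h1 : TConj q (lv θ x₀) (lv θ (thetaL θ h3 x₀)) :=
    ⟨n9 θ, (Mult.TD4Data.mem_iff θ hθ h3).2 (mon_n9 θ h3 hθ).1, n9_lv θ h3 hθ x₀⟩
  obtain ⟨td, tt⟩ := thetaL_invariants θ h3 hθ x₀
  have hth : FixFree θ (thetaL θ h3 x₀) := hx₀.congr_inv θ td tt (thetaL_snd θ h3 x₀)
  exact h1.trans (conj_sim θ h3 hθ hnorm (by rw [hc, thetaL_snd θ h3])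
    (sim_of_eq (ns_of_irr θ hy.1) (ns_of_irr θ hth.1) (hd.trans td.symm) (ht.trans tt.symm)))

theorem hit_product [Fintype K] {g : G} (h : Hit θ h3 (CovS θ x₀) g) :
    ∃ X Y, TConj q (lv θ x₀) X ∧ TConj q (lv θ x₀) Y ∧ g = X * Y := by
  obtain ⟨v, hv, S, u, hu, ⟨A₁, A₂, hS, h₁, h₂⟩, rfl⟩ := h
  have hd1 : A₁.det = x₀.1.1.1.det := (sim_invariants h₁).1
  have hA1 : A₁.det ≠ 0 := hd1 ▸ det_ne x₀.1.1
  let X : ↥(Lgp θ) := ⟨(Matrix.GeneralLinearGroup.mkOfDetNeZero A₁ hA1, x₀.1.2), by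
    show ((A₁.det : Fx θ) : K) = _
    rw [hd1]; exact x₀.2⟩
  have hX : TConj q (lv θ x₀) (lv θ X) ∧ FixFree θ X :=
    ⟨conj_sim θ h3 hθ hnorm (x := x₀) (y := X) rfl h₁,
      hx₀.congr θ hd1 (sim_invariants h₁).2 rfl⟩
  let Y : ↥(Lgp θ) := X⁻¹ * ofS θ S
  have hYm : Y.1.1.1 = A₂ := by
    show (X.1.1⁻¹).1 * S.1 = A₂
    rw [Matrix.coe_units_inv]
    show A₁⁻¹ * S.1 = A₂
    rw [hS, ← Matrix.mul_assoc, nonsing_inv_mul _ (isUnit_of_ne hA1), Matrix.one_mul]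
  have hY : TConj q (lv θ x₀) (lv θ Y) ∧ FixFree θ Y := by
    rcases h₂ with h₂ | ⟨h₂, hc⟩
    · refine conj_inv θ h3 hθ hnorm x₀ hx₀ ?_ (hYm ▸ h₂)
      show x₀.1.2⁻¹ * 1 = _
      rw [mul_one]
    · have hc' : Y.1.2 = x₀.1.2 := by
        show x₀.1.2⁻¹ * 1 = _
        rw [mul_one]; exact inv_eq_of_mul_eq_one_right hc
      exact ⟨conj_sim θ h3 hθ hnorm hc' (hYm ▸ h₂),
        hx₀.congr θ (by rw [hYm]; exact (sim_invariants h₂).1) (by rw [hYm]; exact (sim_invariants h₂).2) hc'⟩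
  refine ⟨v * lv θ X, lv θ Y * u, hX.1.trans (conj_opp θ h3 hθ hX.2 hv), hY.1.trans (conj_right θ h3 hθ hY.2 hu), ?_⟩
  have : ofS θ S = X * Y := by show _ = X * (X⁻¹ * ofS θ S); rw [mul_inv_cancel_left]
  rw [← lv_ofS, this, map_mul]
  simp only [mul_assoc]

theorem cover [Fintype K] (hq : IsPrimePow q) (hK : Fintype.card K = q ^ 3)
    (hcov : ∀ N' : Matrix (Fin 2) (Fin 2) (Fx θ), N'.det = 1 → ((2 : Fx θ) = 0 → N'.trace ≠ 0 ∨ N' = 1) →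
      CovS θ x₀ N') {g : ↥(twistedD4 K q)} (hg : g ≠ 1) :
    ∃ a ∈ twistedD4 K q, ∃ b ∈ twistedD4 K q,
      (g : G) = (a * lv θ x₀ * a⁻¹) * (b * lv θ x₀ * b⁻¹) := by
  obtain ⟨g', hc, hit⟩ := exists_conj_hit θ h3 (CovS θ x₀) hcov hθ hq hK hg
  obtain ⟨X, Y, ⟨a, ha, rfl⟩, ⟨b, hb, rfl⟩, e⟩ := hit_product θ h3 hθ hnorm x₀ hx₀ hit
  obtain ⟨h, hh', eh⟩ := hc
  refine ⟨h⁻¹ * a, mul_mem (inv_mem hh') ha, h⁻¹ * b, mul_mem (inv_mem hh') hb, ?_⟩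
  rw [e] at eh
  calc (g : G) = h⁻¹ * (h * g * h⁻¹) * h := by group
    _ = _ := by rw [eh]; group

end CfsgLib.Lie.TD4Cover
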