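import Cfsg.Agent.Lib.Lie.TD4Cover.Cells

/-!
# `³D₄(q)`: the double coset of the longest element
-/

set_option autoImplicit false
set_option maxRecDepth 100000
set_option linter.unusedSectionVars false

namespace CfsgLib.Lie.TD4Cover

open Matrix Cfsg.Lie CfsgLib.Lie.Chev CfsgLib.Lie.SL2Rel
open CfsgLib.Lie.Mult.TD4Coord (X X_eq X_zero merge_last swap_zero)
open CfsgLib.Lie.Mult.TD4Rel
open TD4 (C rt nd)
open scoped MatrixGroups commutatorElement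

variable {K : Type*} [Field K] (θ : K ≃+* K)

local notation "G" => GL chevD4.Idx K

/-- the inclusion of units of the fixed field -/
noncomputable def inK : (Fx θ)ˣ →* Kˣ := Units.map (Fx θ).subtype.toMonoidHom

theorem N_inK (a : (Fx θ)ˣ) : N θ ((inK θ a : Kˣ) : K) = ((a : Fx θ) : K) ^ 3 := by
  have : ((inK θ a : Kˣ) : K) = ((a : Fx θ) : K) := rfl
  rw [this, N, Fx_fix, Fx_fix]
  ring

variable (h3 : ∀ t : K, θ (θ (θ t)) = t)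

include h3

/-- the norm as a unit of the fixed field -/
noncomputable def nm (b : Kˣ) : (Fx θ)ˣ :=
  Units.mk0 ⟨N θ (b : K), by rw [mem_Fx]; simp only [N, map_mul, h3]; ring⟩ (by
    have hb := b.ne_zero
    have hb1 : θ (b : K) ≠ 0 := fun e => hb (θ.injective (e.trans (map_zero θ).symm))
    have hb2 : θ (θ (b : K)) ≠ 0 := fun e => hb1 (θ.injective (e.trans (map_zero θ).symm))
    simp [Subtype.ext_iff, N, hb, hb1, hb2])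

theorem n6_dS (a : (Fx θ)ˣ) : n6 θ * gl θ (dS a) * (n6 θ)⁻¹ = gl θ (dS a⁻¹) := by
  rw [n6, mul_inv_eq_iff_eq_mul, ← map_mul, ← map_mul]
  congr 1
  refine Subtype.ext ?_
  simp only [Matrix.SpecialLinearGroup.coe_mul]
  ext i j
  fin_cases i <;> fin_cases j <;> simp [nS, dS, Matrix.mul_apply, Fin.sum_univ_two]

theorem n6_T (b : Kˣ) : n6 θ * T θ b * (n6 θ)⁻¹ = T θ b * gl θ (dS (nm θ h3 b)) := by
  have hd : (((nm θ h3 b) : Fx θ) : K) * N θ (((b⁻¹ : Kˣ)) : K) = 1 := by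
    have hb := b.ne_zero
    have hb1 : θ (b : K) ≠ 0 := fun e => hb (θ.injective (e.trans (map_zero θ).symm))
    have hb2 : θ (θ (b : K)) ≠ 0 := fun e => hb1 (θ.injective (e.trans (map_zero θ).symm))
    simp [nm, N]
    field_simp
  have h := T_gl θ b⁻¹ (nm θ h3 b) hd (nS (Fx θ))
  have e : cd (nm θ h3 b) (nS (Fx θ)) = dS (nm θ h3 b) * nS (Fx θ) := by
    refine Subtype.ext ?_
    simp only [Matrix.SpecialLinearGroup.coe_mul]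
    ext i j
    fin_cases i <;> fin_cases j <;> simp [cd, nS, dS, Matrix.mul_apply, Fin.sum_univ_two]
  rw [e, map_mul, map_inv, inv_inv] at h
  rw [n6, show T θ b * gl θ (dS (nm θ h3 b)) =
    T θ b * (gl θ (dS (nm θ h3 b)) * gl θ (nS (Fx θ))) * (gl θ (nS (Fx θ)))⁻¹ by group, ← h]
  group

theorem n7_T (b : Kˣ) : n7 θ * T θ b * (n7 θ)⁻¹ = T θ b⁻¹ := by
  rw [n7, ← hB_dS, ← hB_dS, mul_inv_eq_iff_eq_mul, ← map_mul, ← map_mul]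
  congr 1
  refine Subtype.ext ?_
  simp only [Matrix.SpecialLinearGroup.coe_mul]
  ext i j
  fin_cases i <;> fin_cases j <;> simp [nS, dS, Matrix.mul_apply, Fin.sum_univ_two]

theorem n7_dS (a : (Fx θ)ˣ) : n7 θ * gl θ (dS a) * (n7 θ)⁻¹ = gl θ (dS a) * T θ (inK θ a) := by
  set g : G := gl θ (dS a)
  have hg : g = C.G.torθ (TD4.par θ (inK θ a) 1) := gl_dS θ a
  have hi : g⁻¹ = C.G.torθ (TD4.par θ (inK θ a)⁻¹ 1) := by
    rw [hg, ← map_inv]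
    congr 1
    rw [eq_comm, eq_inv_iff_mul_eq_one, ← par_mul, inv_mul_cancel, one_mul, par_one]
  have ha : θ ((inK θ a : Kˣ) : K) = (inK θ a : Kˣ) := Fx_fix θ _
  have hw : ∀ r t : K, g⁻¹ * rootB θ r * g⁻¹⁻¹ = rootB θ ((inK θ a : Kˣ) * r) ∧
      g⁻¹ * negB θ t * g⁻¹⁻¹ = negB θ (((inK θ a)⁻¹ : Kˣ) * t) := by
    intro r t
    have s3 : ∀ u v w : G, g⁻¹ * (u * v * w) * g⁻¹⁻¹ =
      g⁻¹ * u * g⁻¹⁻¹ * (g⁻¹ * v * g⁻¹⁻¹) * (g⁻¹ * w * g⁻¹⁻¹) := fun u v w => by group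
    constructor
    · rw [rootB, s3, hi, Mult.TD4Data.tor_X θ (r := 18) (by decide +kernel) 2 (-1) 0 0 (by decide +kernel),
        Mult.TD4Data.tor_X θ (r := 13) (by decide +kernel) 0 (-1) 2 0 (by decide +kernel),
        Mult.TD4Data.tor_X θ (r := 12) (by decide +kernel) 0 (-1) 0 2 (by decide +kernel), rootB]
      congr 3 <;> simp [ha]
    · rw [negB, s3, hi, Mult.TD4Data.tor_X θ (r := 5) (by decide +kernel) (-2) 1 0 0 (by decide +kernel),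
        Mult.TD4Data.tor_X θ (r := 10) (by decide +kernel) 0 1 (-2) 0 (by decide +kernel),
        Mult.TD4Data.tor_X θ (r := 11) (by decide +kernel) 0 1 0 (-2) (by decide +kernel), negB]
      congr 3 <;> simp [ha]
  have hS : g⁻¹ * n7 θ * g⁻¹⁻¹ = T θ (inK θ a) * n7 θ := by
    have e : nS K = Fam.upper 1 * Fam.lower (-1) * Fam.upper 1 := nS_eq K
    rw [← hB_dS, n7, ← map_mul, e, map_mul, map_mul, hB_upper, hB_lower,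
      show ∀ u v : G, g⁻¹ * (u * v * u) * g⁻¹⁻¹ = g⁻¹ * u * g⁻¹⁻¹ * (g⁻¹ * v * g⁻¹⁻¹) * (g⁻¹ * u * g⁻¹⁻¹)
        from fun u v => by group, (hw 1 (-1)).1, (hw 1 (-1)).2, ← hB_upper, ← hB_lower, ← map_mul, ← map_mul]
    congr 1
    refine Subtype.ext ?_
    simp only [Matrix.SpecialLinearGroup.coe_mul]
    have := (inK θ a).ne_zero
    ext i j
    fin_cases i <;> fin_cases j <;> simp [dS, Fam.upper, Fam.lower, Matrix.mul_apply, Fin.sum_univ_two]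
  calc n7 θ * g * (n7 θ)⁻¹ = g * (g⁻¹ * n7 θ * g⁻¹⁻¹) * (n7 θ)⁻¹ := by group
    _ = _ := by rw [hS]; group

theorem T_dS (b : Kˣ) (a : (Fx θ)ˣ) : Commute (T θ b) (gl θ (dS a)) := by
  rw [gl_dS, T_eq]
  exact (Commute.all _ _).map (C.G.torθ (K := K))

/-- the torus elements in the Levi subgroup -/
noncomputable def hEl (a : (Fx θ)ˣ) (b : Kˣ) : ↥(Lgp θ) := ofS θ (dS a) * tEl θ h3 b

theorem lv_hEl (a : (Fx θ)ˣ) (b : Kˣ) : lv θ (hEl θ h3 a b) = gl θ (dS a) * T θ b := by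
  rw [hEl, map_mul, lv_ofS, lv_tEl]

theorem hh_T (b : Kˣ) : hh θ * T θ b * (hh θ)⁻¹ =
    gl θ (dS (nm θ h3 b)) * T θ (inK θ (nm θ h3 b) * b⁻¹) := by
  rw [hh, show n7 θ * n6 θ * T θ b * (n7 θ * n6 θ)⁻¹ = n7 θ * (n6 θ * T θ b * (n6 θ)⁻¹) * (n7 θ)⁻¹ by group,
    n6_T θ h3, show n7 θ * (T θ b * gl θ (dS (nm θ h3 b))) * (n7 θ)⁻¹ =
      n7 θ * T θ b * (n7 θ)⁻¹ * (n7 θ * gl θ (dS (nm θ h3 b)) * (n7 θ)⁻¹) by group, n7_T θ h3, n7_dS θ h3, map_mul]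
  rw [← mul_assoc, (T_dS θ h3 b⁻¹ _).eq, mul_assoc, ← map_mul, mul_comm b⁻¹]
  rw [map_mul]

theorem w_dS (a : (Fx θ)ˣ) : n6 θ * hh θ * gl θ (dS a) * (n6 θ * hh θ)⁻¹ =
    gl θ (dS (a * (a ^ 3)⁻¹)) * T θ (inK θ a⁻¹) := by
  rw [hh, show n6 θ * (n7 θ * n6 θ) * gl θ (dS a) * (n6 θ * (n7 θ * n6 θ))⁻¹ =
    n6 θ * (n7 θ * (n6 θ * gl θ (dS a) * (n6 θ)⁻¹) * (n7 θ)⁻¹) * (n6 θ)⁻¹ by group, n6_dS θ h3, n7_dS θ h3,
    show n6 θ * (gl θ (dS a⁻¹) * T θ (inK θ a⁻¹)) * (n6 θ)⁻¹ =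
      n6 θ * gl θ (dS a⁻¹) * (n6 θ)⁻¹ * (n6 θ * T θ (inK θ a⁻¹) * (n6 θ)⁻¹) by group, n6_dS θ h3, n6_T θ h3,
    inv_inv]
  have e : nm θ h3 (inK θ a⁻¹) = (a ^ 3)⁻¹ := by
    refine Units.ext (Subtype.ext ?_)
    show N θ _ = _
    rw [N_inK, ← inv_pow, Units.val_pow_eq_pow_val]
    rfl
  have e' : dS (a * (a ^ 3)⁻¹) = dS a * dS (a ^ 3)⁻¹ := Subtype.ext (by
    simp only [Matrix.SpecialLinearGroup.coe_mul]
    ext i j
    fin_cases i <;> fin_cases j <;> simp [dS, Matrix.mul_apply, Fin.sum_univ_two, mul_comm])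
  rw [e, e', map_mul, (T_dS θ h3 _ ((a ^ 3)⁻¹)).eq, mul_assoc]

variable {q : ℕ} (hθ : ∀ x, θ x = x ^ q)

include hθ

/-- the two parameters on the monomial element of the orthogonal roots -/
theorem reach73 (x : ↥(Lgp θ)) (m : Kˣ) (p : (Fx θ)ˣ) (h : x.1.2 = m * inK θ p) :
    ∃ a ∈ twistedD4 K q, a ∈ UP θ h3 ∧ ∃ v ∈ VN θ h3, ∃ S, ∃ u ∈ UP θ h3,
      a * (n7 θ * n23 θ) * lv θ x = v * gl θ S * u ∧
      S.1 = (tEl θ h3 m * hEl θ h3 (p⁻¹ * ((p⁻¹) ^ 3)⁻¹) (inK θ p) * x).1.1.1 := by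
  have hhm := mon_hh θ h3 hθ
  have hm6 := mon_n6 θ h3 hθ
  set w : G := n6 θ * hh θ with hw
  have hmw : Mon θ w (s6 ++ (s7 ++ s6)) := hm6.mul θ hhm
  obtain ⟨ta, hta, -, ea⟩ := conj_single θ h3 (hmw.mul θ hm6) (r := 14) (s := 23) (by simp) (by simp)
    (by decide +kernel) (Fx_fix θ (-(p : Fx θ)))
  obtain ⟨tf, htf, -, ef⟩ := conj_single θ h3 (hmw.mul θ hm6) (r := 14) (s := 23) (by simp) (by simp)
    (by decide +kernel) (Fx_fix θ (- -((p⁻¹ : (Fx θ)ˣ) : Fx θ)))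
  set a23 : G := w * gl θ (Fam.lower (p : Fx θ)) * w⁻¹ with ha23
  set f23 : G := w * gl θ (Fam.lower (-((p⁻¹ : (Fx θ)ˣ) : Fx θ))) * w⁻¹ with hf23
  have ea' : a23 = X 23 ta := by rw [ha23, lower_as θ h3 hθ, ← ea]; group
  have ef' : f23 = X 23 tf := by rw [hf23, lower_as θ h3 hθ, ← ef]; group
  obtain ⟨k0, hk0⟩ := conj_X hmw.2.2 (r := 14) (s := 0) (by decide +kernel) (by decide +kernel)
  set x0 : G := w * gl θ (Fam.upper ((p⁻¹ : (Fx θ)ˣ) : Fx θ)) * w⁻¹ with hx0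
  have ex0 : x0 = X 0 ((k0 : K) * (((p⁻¹ : (Fx θ)ˣ) : Fx θ) : K)) := by rw [hx0, gl_upper, hk0]
  have hx0V : x0 ∈ VN θ h3 := by
    obtain ⟨t, ht, -, e⟩ := conj_single θ h3 (((mon_n9 θ h3 hθ).inv θ).mul θ hmw) (r := 14) (s := 22)
      (by simp) (by simp) (by decide +kernel) (Fx_fix θ ((p⁻¹ : (Fx θ)ˣ) : Fx θ))
    rw [mem_VN, hx0, gl_upper, show ∀ y : G, (n9 θ)⁻¹ * (w * y * w⁻¹) * n9 θ =
      (n9 θ)⁻¹ * w * y * ((n9 θ)⁻¹ * w)⁻¹ from fun y => by group, e]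
    exact X22_mem_UP θ h3 ht
  have key23 : a23 * n23 θ = x0 * lv θ (hEl θ h3 (p⁻¹ * ((p⁻¹) ^ 3)⁻¹) (inK θ p)) * f23 := by
    rw [lv_hEl, show inK θ p = inK θ (p⁻¹)⁻¹ by rw [inv_inv], ← w_dS θ h3, ← hw, ha23, hf23, hx0, n23, n10,
      show n6 θ * (hh θ * n6 θ * (hh θ)⁻¹) * (n6 θ)⁻¹ = w * n6 θ * w⁻¹ by rw [hw]; group,
      show w * gl θ (Fam.lower (p : Fx θ)) * w⁻¹ * (w * n6 θ * w⁻¹) =
        w * (gl θ (Fam.lower (p : Fx θ)) * n6 θ) * w⁻¹ by group, key6 θ h3 hθ]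
    group
  have c1 : Commute (n7 θ) a23 := by rw [ea']; exact hB_commute θ (Or.inl rfl) _ _
  have c2 : Commute (hB θ (dS m * Fam.upper ((m⁻¹ : Kˣ) : K))) x0 := by
    rw [ex0]; exact hB_commute θ (Or.inr rfl) _ _
  rw [map_mul, hB_dS, hB_upper] at c2
  set H := hEl θ h3 (p⁻¹ * ((p⁻¹) ^ 3)⁻¹) (inK θ p) with hH
  obtain ⟨w1, hw1, e1⟩ := UP_mul_lv θ h3 (rootB_mem_UP θ h3 ((m⁻¹ : Kˣ) : K)) H
  obtain ⟨w2, hw2, e2⟩ := UP_mul_lv θ h3 (mul_mem hw1 (ef' ▸ X23_mem_UP θ h3 htf : f23 ∈ UP θ h3)) x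
  obtain ⟨S, hS, hS1⟩ := lv_eq_gl θ h3 hθ (x := tEl θ h3 m * H * x) (by
    show m⁻¹ * (1 * (inK θ p)⁻¹) * x.1.2 = 1
    rw [h, one_mul, ← _root_.mul_inv, inv_mul_cancel])
  have hUP : rootB θ (-(m : K)) * a23 ∈ UP θ h3 :=
    mul_mem (rootB_mem_UP θ h3 _) (ea' ▸ X23_mem_UP θ h3 hta)
  refine ⟨_, UP_le θ h3 hθ hUP, hUP, negB θ (-((m⁻¹ : Kˣ) : K)) * x0,
    mul_mem (negB_mem_VN θ h3 hθ _) hx0V, S, w2, hw2, ?_, hS1⟩
  calc rootB θ (-(m : K)) * a23 * (n7 θ * n23 θ) * lv θ x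
      = rootB θ (-(m : K)) * n7 θ * (a23 * n23 θ) * lv θ x := by
        rw [show rootB θ (-(m : K)) * a23 * (n7 θ * n23 θ) = rootB θ (-(m : K)) * (a23 * n7 θ) * n23 θ by group,
          ← c1.eq]; group
    _ = negB θ (-((m⁻¹ : Kˣ) : K)) * (T θ m * rootB θ ((m⁻¹ : Kˣ) : K) * x0) * lv θ H * f23 * lv θ x := by
        rw [key7 θ h3 hθ, key23]; group
    _ = negB θ (-((m⁻¹ : Kˣ) : K)) * x0 * T θ m * (rootB θ ((m⁻¹ : Kˣ) : K) * lv θ H) * f23 * lv θ x := by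
        rw [c2.eq]; group
    _ = negB θ (-((m⁻¹ : Kˣ) : K)) * x0 * T θ m * lv θ H * (w1 * f23 * lv θ x) := by rw [e1]; group
    _ = _ := by rw [e2, ← hS, map_mul, map_mul, lv_tEl]; group

/-- one parameter on the monomial element of the short root orthogonal to the central node -/
theorem reach9 (x : ↥(Lgp θ)) (k : Kˣ) (h : x.1.2 = inK θ (nm θ h3 k) * k⁻¹) :
    ∃ a ∈ twistedD4 K q, a ∈ UP θ h3 ∧ ∃ v ∈ VN θ h3, ∃ S, ∃ u ∈ UP θ h3,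
      a * n9 θ * lv θ x = v * gl θ S * u ∧
      S.1 = (hEl θ h3 (nm θ h3 k) (inK θ (nm θ h3 k) * k⁻¹) * x).1.1.1 := by
  have hhm := mon_hh θ h3 hθ
  have hD : ∀ z : K, hh θ * rootB θ z * (hh θ)⁻¹ ∈ UP θ h3 := fun z => by
    obtain ⟨z', hz⟩ := conj_B_D θ h3 hhm (by decide +kernel) z
    rw [hz]; exact rootD_mem_UP θ h3 z'
  set E := hEl θ h3 (nm θ h3 k) (inK θ (nm θ h3 k) * k⁻¹) with hE
  obtain ⟨w, hw, e⟩ := UP_mul_lv θ h3 (hD ((k⁻¹ : Kˣ) : K)) x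
  obtain ⟨S, hS, hS1⟩ := lv_eq_gl θ h3 hθ (x := E * x) (by
    show 1 * (inK θ (nm θ h3 k) * k⁻¹)⁻¹ * x.1.2 = 1
    rw [h, one_mul, inv_mul_cancel])
  refine ⟨_, UP_le θ h3 hθ (hD (-(k : K))), hD _,
    hh θ * negB θ (-((k⁻¹ : Kˣ) : K)) * (hh θ)⁻¹, ?_, S, w, hw, ?_, hS1⟩
  · rw [mem_VN, negB_eq θ h3 hθ, n9]
    convert hD (- -((k⁻¹ : Kˣ) : K)) using 1
    group
  · calc hh θ * rootB θ (-(k : K)) * (hh θ)⁻¹ * n9 θ * lv θ x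
        = hh θ * (rootB θ (-(k : K)) * n7 θ) * (hh θ)⁻¹ * lv θ x := by rw [n9]; group
      _ = hh θ * negB θ (-((k⁻¹ : Kˣ) : K)) * (hh θ)⁻¹ * (hh θ * T θ k * (hh θ)⁻¹) *
            (hh θ * rootB θ ((k⁻¹ : Kˣ) : K) * (hh θ)⁻¹ * lv θ x) := by rw [key7 θ h3 hθ]; group
      _ = _ := by rw [e, hh_T θ h3, ← lv_hEl θ h3, ← hE, ← hS, map_mul]; group

end CfsgLib.Lie.TD4Cover
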