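import Cfsg.Agent.Lib.Lie.TD4Cover.Levi

/-!
# `³D₄(q)`: the unipotent radical, the action of the Levi subgroup, fixed-point-free elements
-/

set_option autoImplicit false
set_option maxRecDepth 100000
set_option linter.unusedSectionVars false

namespace CfsgLib.Lie.TD4Cover

open Matrix Cfsg.Lie CfsgLib.Lie.Chev CfsgLib.Lie.SL2Rel
open CfsgLib.Lie.Mult.TD4Coord (X X_eq X_zero merge_last swap_zero)
open CfsgLib.Lie.Mult.TD4Rel
open TD4 (C rt nd)
open scoped MatrixGroups commutatorElement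

variable {K : Type*} [Field K] (θ : K ≃+* K)

local notation "G" => GL chevD4.Idx K

theorem X_add (r : ℕ) (s t : K) : (X r (s + t) : G) = X r s * X r t := (merge_last s t).symm

theorem X_inv (r : ℕ) (t : K) : (X r t : G)⁻¹ = X r (-t) := by
  rw [inv_eq_iff_mul_eq_one, ← X_add, add_neg_cancel, X_zero]

theorem rootB_zero : rootB θ (0 : K) = 1 := by simp [rootB, X_zero]
theorem rootC_zero : rootC θ (0 : K) = 1 := by simp [rootC, X_zero]
theorem rootD_zero : rootD θ (0 : K) = 1 := by simp [rootD, X_zero]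

theorem rootB_inv (t : K) : (rootB θ t)⁻¹ = rootB θ (-t) := by
  rw [inv_eq_iff_mul_eq_one, ← addB, add_neg_cancel, rootB_zero]
theorem rootC_inv (t : K) : (rootC θ t)⁻¹ = rootC θ (-t) := by
  rw [inv_eq_iff_mul_eq_one, ← addC, add_neg_cancel, rootC_zero]
theorem rootD_inv (t : K) : (rootD θ t)⁻¹ = rootD θ (-t) := by
  rw [inv_eq_iff_mul_eq_one, ← addD, add_neg_cancel, rootD_zero]

theorem conj_of_comm {H : Type*} [Group H] {a b m : H} (h : ⁅a, b⁆ = m) : a * b * a⁻¹ = m * b := by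
  rw [← h, commutatorElement_def]; group

theorem conj_of_commute {H : Type*} [Group H] {a b : H} (h : Commute a b) : a * b * a⁻¹ = b := by
  rw [h.eq, mul_inv_cancel_right]

/-- products on the two long roots -/
noncomputable def u3 (e f : K) : GL chevD4.Idx K := X 22 e * X 23 f

theorem u3_mul (e f e' f' : K) : (u3 e f : G) * u3 e' f' = u3 (e + e') (f + f') := by
  unfold u3
  rw [X_add, X_add, show (X 22 e : G) * X 23 f * (X 22 e' * X 23 f') = X 22 e * (X 23 f * X 22 e') * X 23 f' by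
    group, ← (cEF e' f).eq]
  group

theorem u3_zero : (u3 0 0 : G) = 1 := by simp [u3, X_zero]

theorem u3_inv (e f : K) : (u3 e f : G)⁻¹ = u3 (-e) (-f) := by
  rw [inv_eq_iff_mul_eq_one, u3_mul, add_neg_cancel, add_neg_cancel, u3_zero]

/-- the derived group of the radical's derived group -/
def U3 : Subgroup (GL chevD4.Idx K) where
  carrier := {g | ∃ e f : K, θ e = e ∧ θ f = f ∧ g = u3 e f}
  one_mem' := ⟨0, 0, map_zero θ, map_zero θ, u3_zero.symm⟩
  mul_mem' := by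
    rintro _ _ ⟨e, f, he, hf, rfl⟩ ⟨e', f', he', hf', rfl⟩
    exact ⟨_, _, by rw [map_add, he, he'], by rw [map_add, hf, hf'], u3_mul e f e' f'⟩
  inv_mem' := by
    rintro _ ⟨e, f, he, hf, rfl⟩
    exact ⟨_, _, by rw [map_neg, he], by rw [map_neg, hf], u3_inv e f⟩

theorem mem_U3 {g : G} : g ∈ U3 θ ↔ ∃ e f : K, θ e = e ∧ θ f = f ∧ g = u3 e f := Iff.rfl

theorem X22_mem_U3 {e : K} (he : θ e = e) : (X 22 e : G) ∈ U3 θ :=
  ⟨e, 0, he, map_zero θ, by simp [u3, X_zero]⟩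

theorem X23_mem_U3 {f : K} (hf : θ f = f) : (X 23 f : G) ∈ U3 θ :=
  ⟨0, f, map_zero θ, hf, by simp [u3, X_zero]⟩

theorem commute_D_u3 (d e f : K) : Commute (rootD θ d) (u3 e f) := (cDE θ d e).mul_right (cDF θ d f)

theorem commute_B_u3 (d e f : K) : Commute (rootB θ d) (u3 e f) := (cBE θ d e).mul_right (cBF θ d f)

theorem commute_C_u3 (d e f : K) : Commute (rootC θ d) (u3 e f) := (cCE θ d e).mul_right (cCF θ d f)

/-- the second term of the radical -/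
def U2 : Subgroup (GL chevD4.Idx K) where
  carrier := {g | ∃ d : K, ∃ v ∈ U3 θ, g = rootD θ d * v}
  one_mem' := ⟨0, 1, one_mem _, by rw [rootD_zero, mul_one]⟩
  mul_mem' := by
    rintro _ _ ⟨d, v, hv, rfl⟩ ⟨d', v', hv', rfl⟩
    refine ⟨d + d', v * v', mul_mem hv hv', ?_⟩
    obtain ⟨e, f, -, -, rfl⟩ := hv
    rw [addD, show rootD θ d * u3 e f * (rootD θ d' * v') = rootD θ d * (u3 e f * rootD θ d') * v' by group,
      ← (commute_D_u3 θ d' e f).eq]
    group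
  inv_mem' := by
    rintro _ ⟨d, v, hv, rfl⟩
    refine ⟨-d, v⁻¹, inv_mem hv, ?_⟩
    obtain ⟨e, f, -, -, rfl⟩ := hv
    rw [_root_.mul_inv_rev, rootD_inv, u3_inv, (commute_D_u3 θ (-d) _ _).eq]

theorem rootD_mem_U2 (d : K) : rootD θ d ∈ U2 θ := ⟨d, 1, one_mem _, by rw [mul_one]⟩

theorem U3_le_U2 : U3 θ ≤ U2 θ := fun g hg => ⟨0, g, hg, by rw [rootD_zero, one_mul]⟩

variable (h3 : ∀ t : K, θ (θ (θ t)) = t)

include h3

theorem tr_fix (x : K) : θ (x + θ x + θ (θ x)) = x + θ x + θ (θ x) := by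
  simp only [map_add, h3]; ring

theorem conjB_U2 (r : K) {v : G} (hv : v ∈ U2 θ) : rootB θ r * v * (rootB θ r)⁻¹ ∈ U2 θ := by
  obtain ⟨d, w, hw, rfl⟩ := hv
  obtain ⟨e, f, he, hf, rfl⟩ := hw
  rw [show rootB θ r * (rootD θ d * u3 e f) * (rootB θ r)⁻¹ =
    rootB θ r * rootD θ d * (rootB θ r)⁻¹ * (rootB θ r * u3 e f * (rootB θ r)⁻¹) by group,
    conj_of_comm (rBD θ r d h3), conj_of_commute (commute_B_u3 θ r e f)]
  exact mul_mem (mul_mem (U3_le_U2 θ (X22_mem_U3 θ (tr_fix θ h3 _))) (rootD_mem_U2 θ d))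
    (U3_le_U2 θ ⟨e, f, he, hf, rfl⟩)

theorem conjC_U2 (c : K) {v : G} (hv : v ∈ U2 θ) : rootC θ c * v * (rootC θ c)⁻¹ ∈ U2 θ := by
  obtain ⟨d, w, hw, rfl⟩ := hv
  obtain ⟨e, f, he, hf, rfl⟩ := hw
  rw [show rootC θ c * (rootD θ d * u3 e f) * (rootC θ c)⁻¹ =
    rootC θ c * rootD θ d * (rootC θ c)⁻¹ * (rootC θ c * u3 e f * (rootC θ c)⁻¹) by group,
    conj_of_comm (rCD θ c d h3), conj_of_commute (commute_C_u3 θ c e f)]
  exact mul_mem (mul_mem (U3_le_U2 θ (X23_mem_U3 θ (tr_fix θ h3 _))) (rootD_mem_U2 θ d))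
    (U3_le_U2 θ ⟨e, f, he, hf, rfl⟩)

theorem swap_C_B (r c : K) : ∃ v ∈ U2 θ, rootC θ c * rootB θ r = rootB θ r * rootC θ c * v := by
  have h := conj_of_comm (rBC θ h3 (-r) c)
  set m := rootD θ _ * X 22 _ * X 23 _ with hm
  rw [← rootB_inv, inv_inv] at h
  have hmem : m ∈ U2 θ := by
    refine mul_mem (mul_mem (rootD_mem_U2 θ _) (U3_le_U2 θ (X22_mem_U3 θ ?_))) (U3_le_U2 θ (X23_mem_U3 θ ?_))
    · simp only [map_add, map_mul, h3]; ring
    · simp only [map_add, map_mul, h3]; ring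
  refine ⟨(rootC θ c)⁻¹ * m * rootC θ c, ?_, ?_⟩
  · have := conjC_U2 θ h3 (-c) hmem
    rwa [← rootC_inv, inv_inv] at this
  · calc rootC θ c * rootB θ r = rootB θ r * ((rootB θ r)⁻¹ * rootC θ c * rootB θ r) := by group
      _ = _ := by rw [h]; group

/-- products in the first layer -/
theorem bc_mul (r c r' c' : K) {v v' : G} (hv : v ∈ U2 θ) (hv' : v' ∈ U2 θ) :
    ∃ w ∈ U2 θ, rootB θ r * rootC θ c * v * (rootB θ r' * rootC θ c' * v') =
      rootB θ (r + r') * rootC θ (c + c') * w := by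
  obtain ⟨m, hm, e⟩ := swap_C_B θ h3 r' c
  have h1 := conjB_U2 θ h3 (-r') hv
  rw [← rootB_inv, inv_inv] at h1
  have h2 := conjC_U2 θ h3 (-c') (mul_mem hm h1)
  rw [← rootC_inv, inv_inv] at h2
  refine ⟨(rootC θ c')⁻¹ * (m * ((rootB θ r')⁻¹ * v * rootB θ r')) * rootC θ c' * v', mul_mem h2 hv', ?_⟩
  rw [addB, addC]
  calc rootB θ r * rootC θ c * v * (rootB θ r' * rootC θ c' * v')
      = rootB θ r * (rootC θ c * rootB θ r') * ((rootB θ r')⁻¹ * v * rootB θ r') * rootC θ c' * v' := by group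
    _ = _ := by rw [e]; group

/-- the unipotent radical -/
def UP : Subgroup (GL chevD4.Idx K) where
  carrier := {g | ∃ r c : K, ∃ v ∈ U2 θ, g = rootB θ r * rootC θ c * v}
  one_mem' := ⟨0, 0, 1, one_mem _, by rw [rootB_zero, rootC_zero]; simp⟩
  mul_mem' := by
    rintro _ _ ⟨r, c, v, hv, rfl⟩ ⟨r', c', v', hv', rfl⟩
    obtain ⟨w, hw, e⟩ := bc_mul θ h3 r c r' c' hv hv'
    exact ⟨_, _, w, hw, e⟩
  inv_mem' := by
    rintro _ ⟨r, c, v, hv, rfl⟩
    obtain ⟨m, hm, e⟩ := swap_C_B θ h3 (-r) (-c)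
    have h2 := conjC_U2 θ h3 c (conjB_U2 θ h3 r (inv_mem hv))
    have h2' : rootB θ r * rootC θ c * v⁻¹ * (rootB θ r * rootC θ c)⁻¹ ∈ U2 θ := by
      have h4 := conjB_U2 θ h3 r (conjC_U2 θ h3 c (inv_mem hv))
      simpa [mul_assoc] using h4
    refine ⟨-r, -c, m * (rootB θ r * rootC θ c * v⁻¹ * (rootB θ r * rootC θ c)⁻¹), mul_mem hm h2', ?_⟩
    rw [← mul_assoc, ← e, ← rootB_inv, ← rootC_inv]
    group

theorem mem_UP {g : G} : g ∈ UP θ h3 ↔ ∃ r c : K, ∃ v ∈ U2 θ, g = rootB θ r * rootC θ c * v := Iff.rfl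

theorem U2_le_UP : U2 θ ≤ UP θ h3 := fun g hg => ⟨0, 0, g, hg, by rw [rootB_zero, rootC_zero]; simp⟩

theorem rootB_mem_UP (r : K) : rootB θ r ∈ UP θ h3 := ⟨r, 0, 1, one_mem _, by rw [rootC_zero]; simp⟩

theorem rootC_mem_UP (c : K) : rootC θ c ∈ UP θ h3 := ⟨0, c, 1, one_mem _, by rw [rootB_zero]; simp⟩

theorem rootD_mem_UP (d : K) : rootD θ d ∈ UP θ h3 := U2_le_UP θ h3 (rootD_mem_U2 θ d)

theorem X22_mem_UP {e : K} (he : θ e = e) : (X 22 e : G) ∈ UP θ h3 :=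
  U2_le_UP θ h3 (U3_le_U2 θ (X22_mem_U3 θ he))

theorem X23_mem_UP {e : K} (he : θ e = e) : (X 23 e : G) ∈ UP θ h3 :=
  U2_le_UP θ h3 (U3_le_U2 θ (X23_mem_U3 θ he))

/-- the action on the three layers -/
def Act (g : G) (A : Matrix (Fin 2) (Fin 2) K) (l : K) (B : Matrix (Fin 2) (Fin 2) K) : Prop :=
  (∀ r c : K, ∃ v ∈ U2 θ, g * (rootB θ r * rootC θ c) * g⁻¹ =
      rootB θ (A 1 0 * c + A 1 1 * r) * rootC θ (A 0 0 * c + A 0 1 * r) * v) ∧
  (∀ d : K, g * rootD θ d * g⁻¹ = rootD θ (l * d)) ∧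
  ∀ e f : K, θ e = e → θ f = f → θ (B 1 0 * f + B 1 1 * e) = B 1 0 * f + B 1 1 * e ∧
    θ (B 0 0 * f + B 0 1 * e) = B 0 0 * f + B 0 1 * e ∧
    g * u3 e f * g⁻¹ = u3 (B 1 0 * f + B 1 1 * e) (B 0 0 * f + B 0 1 * e)

variable {θ}

omit h3 in
theorem Act.conj_U3 {g : G} {A B : Matrix (Fin 2) (Fin 2) K} {l : K} (h : Act θ g A l B) {v : G}
    (hv : v ∈ U3 θ) : g * v * g⁻¹ ∈ U3 θ := by
  obtain ⟨e, f, he, hf, rfl⟩ := hv
  obtain ⟨h1, h2, e'⟩ := h.2.2 e f he hf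
  exact ⟨_, _, h1, h2, e'⟩

omit h3 in
theorem Act.conj_U2 {g : G} {A B : Matrix (Fin 2) (Fin 2) K} {l : K} (h : Act θ g A l B) {v : G}
    (hv : v ∈ U2 θ) : g * v * g⁻¹ ∈ U2 θ := by
  obtain ⟨d, w, hw, rfl⟩ := hv
  rw [show g * (rootD θ d * w) * g⁻¹ = g * rootD θ d * g⁻¹ * (g * w * g⁻¹) by group, h.2.1]
  exact mul_mem (rootD_mem_U2 θ _) (U3_le_U2 θ (h.conj_U3 hw))

omit h3 in
theorem Act.mul {g g' : G} {A B A' B' : Matrix (Fin 2) (Fin 2) K} {l l' : K} (h : Act θ g A l B)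
    (h' : Act θ g' A' l' B') : Act θ (g * g') (A * A') (l * l') (B * B') := by
  refine ⟨fun r c => ?_, fun d => ?_, fun e f he hf => ?_⟩
  · obtain ⟨v, hv, e⟩ := h'.1 r c
    obtain ⟨w, hw, e'⟩ := h.1 (A' 1 0 * c + A' 1 1 * r) (A' 0 0 * c + A' 0 1 * r)
    refine ⟨w * (g * v * g⁻¹), mul_mem hw (h.conj_U2 hv), ?_⟩
    rw [show g * g' * (rootB θ r * rootC θ c) * (g * g')⁻¹ =
      g * (g' * (rootB θ r * rootC θ c) * g'⁻¹) * g⁻¹ by group, e,
      show ∀ a : G, g * (a * v) * g⁻¹ = g * a * g⁻¹ * (g * v * g⁻¹) from fun a => by group, e', ← mul_assoc _ w]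
    congr 4 <;> simp [Matrix.mul_apply, Fin.sum_univ_two] <;> ring
  · rw [show g * g' * rootD θ d * (g * g')⁻¹ = g * (g' * rootD θ d * g'⁻¹) * g⁻¹ by group, h'.2.1, h.2.1,
      mul_assoc l]
  · obtain ⟨h1, h2, e1⟩ := h'.2.2 e f he hf
    obtain ⟨k1, k2, e2⟩ := h.2.2 _ _ h1 h2
    have q1 : (B * B') 1 0 * f + (B * B') 1 1 * e =
        B 1 0 * (B' 0 0 * f + B' 0 1 * e) + B 1 1 * (B' 1 0 * f + B' 1 1 * e) := by
      simp [Matrix.mul_apply, Fin.sum_univ_two]; ring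
    have q0 : (B * B') 0 0 * f + (B * B') 0 1 * e =
        B 0 0 * (B' 0 0 * f + B' 0 1 * e) + B 0 1 * (B' 1 0 * f + B' 1 1 * e) := by
      simp [Matrix.mul_apply, Fin.sum_univ_two]; ring
    rw [q1, q0]
    refine ⟨k1, k2, ?_⟩
    rw [← e2, ← e1]; group

variable (θ)

/-- the entries in the large field -/
def toK (M : Matrix (Fin 2) (Fin 2) (Fx θ)) : Matrix (Fin 2) (Fin 2) K := M.map fun x => (x : K)

omit h3 in
theorem toK_mul (M M' : Matrix (Fin 2) (Fin 2) (Fx θ)) : toK θ (M * M') = toK θ M * toK θ M' := by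
  ext i j
  simp [toK, Matrix.mul_apply, Fin.sum_univ_two]

theorem act_upper (w : Fx θ) :
    Act θ (gl θ (Fam.upper w)) (toK θ (Fam.upper w).1) 1 (toK θ (Fam.upper w).1) := by
  rw [gl_upper]
  have hw : θ (w : K) = w := Fx_fix θ w
  refine ⟨fun r c => ?_, fun d => ?_, fun e f he hf => ⟨?_, ?_, ?_⟩⟩
  · have h := conj_of_comm (rAB θ h3 (w : K) r hw)
    set m := rootD θ ((w : K) * (r * θ r)) * X 22 ((w : K) * (r * θ r * θ (θ r))) *
      X 23 (-((w : K) * w * (r * θ r * θ (θ r))))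
    have hN : θ (r * θ r * θ (θ r)) = r * θ r * θ (θ r) := by simp only [map_mul, h3]; ring
    have hm : m ∈ U2 θ := mul_mem (mul_mem (rootD_mem_U2 θ _)
      (U3_le_U2 θ (X22_mem_U3 θ (by rw [map_mul, hN, hw]))))
      (U3_le_U2 θ (X23_mem_U3 θ (by rw [map_neg, map_mul, map_mul, hN, hw])))
    have h' : (X 14 (w : K) : G) * rootB θ r * (X 14 (w : K))⁻¹ = rootC θ ((w : K) * r) * m * rootB θ r := by
      rw [h]; simp only [m, mul_assoc]
    obtain ⟨s, hs, es⟩ := swap_C_B θ h3 r ((w : K) * r)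
    have hm' := conjB_U2 θ h3 (-r) hm
    rw [← rootB_inv, inv_inv] at hm'
    have hsm := conjC_U2 θ h3 (-c) (mul_mem hs hm')
    rw [← rootC_inv, inv_inv] at hsm
    refine ⟨(rootC θ c)⁻¹ * (s * ((rootB θ r)⁻¹ * m * rootB θ r)) * rootC θ c, hsm, ?_⟩
    rw [show (X 14 (w : K) : G) * (rootB θ r * rootC θ c) * (X 14 (w : K))⁻¹ =
      X 14 (w : K) * rootB θ r * (X 14 (w : K))⁻¹ * (X 14 (w : K) * rootC θ c * (X 14 (w : K))⁻¹) by group, h',
      conj_of_commute (cAC θ (w : K) c)]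
    have e1 : toK θ (Fam.upper w).1 1 0 * c + toK θ (Fam.upper w).1 1 1 * r = r := by
      simp [toK, Fam.upper]
    have e0 : toK θ (Fam.upper w).1 0 0 * c + toK θ (Fam.upper w).1 0 1 * r = w * r + c := by
      simp [toK, Fam.upper]; ring
    rw [e1, e0, addC]
    calc rootC θ ((w : K) * r) * m * rootB θ r * rootC θ c
        = rootC θ ((w : K) * r) * rootB θ r * ((rootB θ r)⁻¹ * m * rootB θ r) * rootC θ c := by group
      _ = _ := by rw [es]; group
  · rw [conj_of_commute (cAD θ (w : K) d), one_mul]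
  · simp [toK, Fam.upper, he]
  · simp [toK, Fam.upper, hw, he, hf]
  · have e1 : toK θ (Fam.upper w).1 1 0 * f + toK θ (Fam.upper w).1 1 1 * e = e := by simp [toK, Fam.upper]
    have e0 : toK θ (Fam.upper w).1 0 0 * f + toK θ (Fam.upper w).1 0 1 * e = f + w * e := by
      simp [toK, Fam.upper]
    rw [e1, e0, u3, show (X 14 (w : K) : G) * (X 22 e * X 23 f) * (X 14 (w : K))⁻¹ =
      X 14 (w : K) * X 22 e * (X 14 (w : K))⁻¹ * (X 14 (w : K) * X 23 f * (X 14 (w : K))⁻¹) by group,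
      conj_of_comm (rAE (w : K) e), conj_of_commute (cAF (w : K) f), ← (cEF e _).eq, u3, add_comm f, X_add,
      mul_assoc]

omit h3 in
theorem gl_nS : gl θ (nS (Fx θ)) = C.G.nU (nd 1) := by
  have e : Matrix.SpecialLinearGroup.map (Fx θ).subtype (nS (Fx θ)) = nS K := Subtype.ext (by
    ext i j; rw [sub_apply']; fin_cases i <;> fin_cases j <;> simp [nS])
  rw [gl, MonoidHom.comp_apply, e, rH_nS, ← (TD4.simp_rt).2.1]
  simp [Good.nU, Good.nE]

omit h3 in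
theorem n6_X (r s : ℕ) (hr : r < chevD4.nroots) (hs : chevD4.reflectRoot 1 r = s) {ε : ℤ}
    (he : C.G.eta (nd 1) ⟨r, hr⟩ = ε) (t : K) :
    C.G.nU (nd 1) * (X r t : G) * (C.G.nU (nd 1))⁻¹ = X s ((ε : K) * t) := by
  have e : (C.G.w (nd 1) ⟨r, hr⟩).val = s := (C.G.w_reflect (nd 1) ⟨r, hr⟩).trans hs
  rw [X_eq r hr, X_eq s (e ▸ (C.G.w (nd 1) ⟨r, hr⟩).isLt), C.G.nU_xu, mul_inv_cancel_right, ← he]
  congr 1
  exact Fin.ext e

theorem act_nS : Act θ (gl θ (nS (Fx θ))) (toK θ (nS (Fx θ)).1) 1 (toK θ (nS (Fx θ)).1) := by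
  rw [gl_nS]
  set n : G := C.G.nU (nd 1)
  have s3 : ∀ a b c : G, n * (a * b * c) * n⁻¹ = n * a * n⁻¹ * (n * b * n⁻¹) * (n * c * n⁻¹) := fun a b c => by
    group
  have hB : ∀ r : K, n * rootB θ r * n⁻¹ = rootC θ r := fun r => by
    rw [rootB, s3, n6_X 18 19 (by decide +kernel) (by decide +kernel) (ε := 1) (by decide +kernel),
      n6_X 13 16 (by decide +kernel) (by decide +kernel) (ε := -1) (by decide +kernel),
      n6_X 12 15 (by decide +kernel) (by decide +kernel) (ε := -1) (by decide +kernel), rootC]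
    simp
  have hC : ∀ r : K, n * rootC θ r * n⁻¹ = rootB θ (-r) := fun r => by
    rw [rootC, s3, n6_X 19 18 (by decide +kernel) (by decide +kernel) (ε := -1) (by decide +kernel),
      n6_X 16 13 (by decide +kernel) (by decide +kernel) (ε := 1) (by decide +kernel),
      n6_X 15 12 (by decide +kernel) (by decide +kernel) (ε := 1) (by decide +kernel), rootB]
    simp
  refine ⟨fun r c => ?_, fun d => ?_, fun e f he hf => ⟨?_, ?_, ?_⟩⟩
  · obtain ⟨v, hv, e⟩ := swap_C_B θ h3 (-c) r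
    refine ⟨v, hv, ?_⟩
    rw [show n * (rootB θ r * rootC θ c) * n⁻¹ = n * rootB θ r * n⁻¹ * (n * rootC θ c * n⁻¹) by group, hB, hC, e]
    congr 3 <;> simp [toK, nS]
  · rw [rootD, s3, n6_X 21 21 (by decide +kernel) (by decide +kernel) (ε := 1) (by decide +kernel),
      n6_X 17 17 (by decide +kernel) (by decide +kernel) (ε := 1) (by decide +kernel),
      n6_X 20 20 (by decide +kernel) (by decide +kernel) (ε := 1) (by decide +kernel), rootD]
    simp
  · simp [toK, nS, hf]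
  · simp [toK, nS, he]
  · rw [u3, show n * ((X 22 e : G) * X 23 f) * n⁻¹ = n * X 22 e * n⁻¹ * (n * X 23 f * n⁻¹) by group,
      n6_X 22 23 (by decide +kernel) (by decide +kernel) (ε := 1) (by decide +kernel),
      n6_X 23 22 (by decide +kernel) (by decide +kernel) (ε := -1) (by decide +kernel), (cEF _ _).symm.eq, u3]
    simp [toK, nS]

theorem act_gl (S : Matrix.SpecialLinearGroup (Fin 2) (Fx θ)) : Act θ (gl θ S) (toK θ S.1) 1 (toK θ S.1) := by
  refine gl_induction θ (P := fun S => Act θ (gl θ S) (toK θ S.1) 1 (toK θ S.1)) (fun a b ha hb => ?_)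
    (act_upper θ h3) (act_nS θ h3) S
  have := ha.mul hb
  rwa [← map_mul, one_mul, ← toK_mul] at this

theorem act_T (b : Kˣ) :
    Act θ (T θ b) !![(b : K) / (θ b * θ (θ b)), 0; 0, (b : K) ^ 2] ((b : K) * θ b / θ (θ b))
      !![1, 0; 0, N θ (b : K)] := by
  have hb := b.ne_zero
  have hb1 : θ (b : K) ≠ 0 := fun e => hb (θ.injective (e.trans (map_zero θ).symm))
  have hb2 : θ (θ (b : K)) ≠ 0 := fun e => hb1 (θ.injective (e.trans (map_zero θ).symm))
  have s3 : ∀ a c d : G, T θ b * (a * c * d) * (T θ b)⁻¹ = T θ b * a * (T θ b)⁻¹ * (T θ b * c * (T θ b)⁻¹) *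
      (T θ b * d * (T θ b)⁻¹) := fun a c d => by group
  refine ⟨fun r c => ⟨1, one_mem _, ?_⟩, fun d => ?_, fun e f he hf => ⟨?_, ?_, ?_⟩⟩
  · rw [show T θ b * (rootB θ r * rootC θ c) * (T θ b)⁻¹ =
      T θ b * rootB θ r * (T θ b)⁻¹ * (T θ b * rootC θ c * (T θ b)⁻¹) by group, rootB, rootC, s3, s3, T_eq,
      Mult.TD4Data.tor_X θ (r := 18) (by decide +kernel) 2 (-1) 0 0 (by decide +kernel),
      Mult.TD4Data.tor_X θ (r := 13) (by decide +kernel) 0 (-1) 2 0 (by decide +kernel),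
      Mult.TD4Data.tor_X θ (r := 12) (by decide +kernel) 0 (-1) 0 2 (by decide +kernel),
      Mult.TD4Data.tor_X θ (r := 19) (by decide +kernel) 1 1 (-1) (-1) (by decide +kernel),
      Mult.TD4Data.tor_X θ (r := 16) (by decide +kernel) (-1) 1 1 (-1) (by decide +kernel),
      Mult.TD4Data.tor_X θ (r := 15) (by decide +kernel) (-1) 1 (-1) 1 (by decide +kernel), mul_one, rootB, rootC]
    congr 3 <;> simp [zpow_two, sq, h3] <;> field_simp <;> try simp
  · rw [rootD, s3, T_eq, Mult.TD4Data.tor_X θ (r := 21) (by decide +kernel) 1 0 1 (-1) (by decide +kernel),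
      Mult.TD4Data.tor_X θ (r := 17) (by decide +kernel) (-1) 0 1 1 (by decide +kernel),
      Mult.TD4Data.tor_X θ (r := 20) (by decide +kernel) 1 0 (-1) 1 (by decide +kernel), rootD]
    congr 3 <;> simp [h3] <;> field_simp <;> try simp
  · simp [N, h3, he]; left; ring
  · simp [hf]
  · rw [u3, show T θ b * ((X 22 e : G) * X 23 f) * (T θ b)⁻¹ =
      T θ b * X 22 e * (T θ b)⁻¹ * (T θ b * X 23 f * (T θ b)⁻¹) by group, T_eq,
      Mult.TD4Data.tor_X θ (r := 22) (by decide +kernel) 1 (-1) 1 1 (by decide +kernel),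
      Mult.TD4Data.tor_X θ (r := 23) (by decide +kernel) 0 1 0 0 (by decide +kernel), u3]
    simp [N]

/-- the action of an element of the Levi subgroup -/
theorem act_lv (x : ↥(Lgp θ)) :
    Act θ (lv θ x) (((x.1.2 : K) ^ 2)⁻¹ • toK θ x.1.1.1) (θ (θ (x.1.2 : K)) / ((x.1.2 : K) * θ (x.1.2 : K)))
      ((N θ (x.1.2 : K))⁻¹ • toK θ x.1.1.1) := by
  set M := x.1.1
  set c : Kˣ := x.1.2
  have hc := c.ne_zero
  have hc1 : θ (c : K) ≠ 0 := fun e => hc (θ.injective (e.trans (map_zero θ).symm))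
  have hc2 : θ (θ (c : K)) ≠ 0 := fun e => hc1 (θ.injective (e.trans (map_zero θ).symm))
  have hd : ((M.1.det : Fx θ) : K) = (c : K) * θ c * θ (θ c) := x.2
  have h := (act_gl θ h3 (sOf M)).mul (act_T θ h3 c⁻¹)
  rw [← lv_apply] at h
  convert h using 1
  · ext i j
    fin_cases i <;> fin_cases j <;>
      simp [toK, sOf, Matrix.mul_apply, Fin.sum_univ_two, hd] <;> field_simp
  · simp; field_simp
  · ext i j
    fin_cases i <;> fin_cases j <;>
      simp [toK, sOf, Matrix.mul_apply, Fin.sum_univ_two, hd, N] <;> field_simp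

theorem lv_conj_UP (x : ↥(Lgp θ)) {u : G} (hu : u ∈ UP θ h3) : lv θ x * u * (lv θ x)⁻¹ ∈ UP θ h3 := by
  obtain ⟨r, c, v, hv, rfl⟩ := hu
  have h := act_lv θ h3 x
  obtain ⟨w, hw, e⟩ := h.1 r c
  rw [show lv θ x * (rootB θ r * rootC θ c * v) * (lv θ x)⁻¹ =
    lv θ x * (rootB θ r * rootC θ c) * (lv θ x)⁻¹ * (lv θ x * v * (lv θ x)⁻¹) by group, e]
  exact mul_mem (mul_mem (mul_mem (rootB_mem_UP θ h3 _) (rootC_mem_UP θ h3 _)) (U2_le_UP θ h3 hw))
    (U2_le_UP θ h3 (h.conj_U2 hv))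

/-- fixed-point-free elements of the Levi subgroup -/
def FixFree (x : ↥(Lgp θ)) : Prop :=
  (∀ r : K, r * r - (x.1.1.1.trace : K) * r + (x.1.1.1.det : K) ≠ 0) ∧
    θ (θ (x.1.2 : K)) ≠ (x.1.2 : K) * θ (x.1.2 : K)

omit h3 in
theorem eq_zero_of_eigen {M : Matrix (Fin 2) (Fin 2) K} {r p q : K}
    (hr : r * r - M.trace * r + M.det ≠ 0)
    (h0 : M 0 0 * p + M 0 1 * q = r * p) (h1 : M 1 0 * p + M 1 1 * q = r * q) : p = 0 ∧ q = 0 := by
  rw [Matrix.trace_fin_two, Matrix.det_fin_two] at hr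
  have hp : (r * r - (M 0 0 + M 1 1) * r + (M 0 0 * M 1 1 - M 0 1 * M 1 0)) * p = 0 := by
    linear_combination (M 1 1 - r) * h0 - M 0 1 * h1
  have hq : (r * r - (M 0 0 + M 1 1) * r + (M 0 0 * M 1 1 - M 0 1 * M 1 0)) * q = 0 := by
    linear_combination (M 0 0 - r) * h1 - M 1 0 * h0
  exact ⟨(mul_eq_zero.1 hp).resolve_left hr, (mul_eq_zero.1 hq).resolve_left hr⟩

omit h3 in
theorem coords_eq {r c d e f r' c' d' e' f' : K}
    (h : rootB θ r * rootC θ c * (rootD θ d * u3 e f) = rootB θ r' * rootC θ c' * (rootD θ d' * u3 e' f')) :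
    r = r' ∧ c = c' ∧ d = d' ∧ e = e' ∧ f = f' := by
  obtain ⟨a, -, b⟩ := unique_six θ (w := 0) (w' := 0) (r := r) (c := c) (d := d) (e := e) (f := f)
    (r' := r') (c' := c') (d' := d') (e' := e') (f' := f') (by
      simpa only [X_zero, mul_one, u3, ← mul_assoc] using h)
  exact ⟨a, b⟩

theorem eq_one_of_commute {x : ↥(Lgp θ)} (hx : FixFree θ x) {u : G} (hu : u ∈ UP θ h3)
    (hc : lv θ x * u * (lv θ x)⁻¹ = u) : u = 1 := by
  have h := act_lv θ h3 x
  set M := toK θ x.1.1.1 with hM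
  set c0 : K := (x.1.2 : K)
  have hc0 : c0 ≠ 0 := (x.1.2).ne_zero
  have htr : M.trace = (x.1.1.1.trace : K) := by simp [hM, toK, Matrix.trace_fin_two]
  have hdet : M.det = (x.1.1.1.det : K) := by simp [hM, toK, Matrix.det_fin_two]
  have hN : N θ c0 ≠ 0 := fun e => det_ne x.1.1 (Subtype.ext (x.2.trans e))
  obtain ⟨r, c, v, hv, rfl⟩ := hu
  obtain ⟨w, hw, e1⟩ := h.1 r c
  rw [show lv θ x * (rootB θ r * rootC θ c * v) * (lv θ x)⁻¹ =
    lv θ x * (rootB θ r * rootC θ c) * (lv θ x)⁻¹ * (lv θ x * v * (lv θ x)⁻¹) by group, e1, mul_assoc] at hc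
  obtain ⟨dd, v3, ⟨ee, ff, hee, hff, rfl⟩, e2⟩ := mul_mem hw (h.conj_U2 hv)
  obtain ⟨d, v3', ⟨e, f, he, hf, rfl⟩, rfl⟩ := hv
  rw [e2] at hc
  obtain ⟨hr, hc', hd, -, -⟩ := coords_eq θ hc
  obtain ⟨ec, er⟩ := eq_zero_of_eigen (M := M) (r := c0 ^ 2) (p := c) (q := r)
    (by rw [htr, hdet]; exact hx.1 _)
    (by
      simp only [Matrix.smul_apply, smul_eq_mul] at hc'
      field_simp at hc'
      linear_combination hc')
    (by
      simp only [Matrix.smul_apply, smul_eq_mul] at hr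
      field_simp at hr
      linear_combination hr)
  subst ec er
  simp only [mul_zero, add_zero, rootB_zero, rootC_zero, one_mul, mul_inv_cancel, mul_one] at e1
  rw [← e1, one_mul, show lv θ x * (rootD θ d * u3 e f) * (lv θ x)⁻¹ =
    lv θ x * rootD θ d * (lv θ x)⁻¹ * (lv θ x * u3 e f * (lv θ x)⁻¹) by group, h.2.1,
    (h.2.2 e f he hf).2.2] at e2
  have hh : rootB θ 0 * rootC θ 0 * (rootD θ dd * u3 ee ff) =
      rootB θ 0 * rootC θ 0 * (rootD θ d * u3 e f) := by simpa only [mul_zero, add_zero] using hc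
  rw [← e2] at hh
  obtain ⟨-, -, hd', he', hf'⟩ := coords_eq θ hh
  have hd0 : d = 0 := by
    have h1 : θ c0 ≠ 0 := fun e => hc0 (θ.injective (e.trans (map_zero θ).symm))
    field_simp at hd'
    have h2 : (θ (θ c0) - c0 * θ c0) * d = 0 := by linear_combination hd'
    exact (mul_eq_zero.1 h2).resolve_left (sub_ne_zero.2 hx.2)
  obtain ⟨ef, ee'⟩ := eq_zero_of_eigen (M := M) (r := N θ c0) (p := f) (q := e)
    (by rw [htr, hdet]; exact hx.1 _)
    (by
      simp only [Matrix.smul_apply, smul_eq_mul] at hf'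
      field_simp at hf'
      linear_combination hf')
    (by
      simp only [Matrix.smul_apply, smul_eq_mul] at he'
      field_simp at he'
      linear_combination he')
  subst ef ee' hd0
  simp [rootB_zero, rootC_zero, rootD_zero, u3_zero]

end CfsgLib.Lie.TD4Cover
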