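import Cfsg.Agent.Lib.Lie.TD4Cover.Unip

/-!
# `³D₄(q)`: monomial elements, the parabolic subgroup, the opposite radical
-/

set_option autoImplicit false
set_option maxRecDepth 100000
set_option linter.unusedSectionVars false

namespace CfsgLib.Lie.TD4Cover

open Matrix Cfsg.Lie CfsgLib.Lie.Chev CfsgLib.Lie.SL2Rel
open CfsgLib.Lie.Mult.TD4Coord (X X_eq X_zero merge_last swap_zero)
open CfsgLib.Lie.Mult.TD4Rel
open TD4 (C rt nd)
open scoped MatrixGroups commutatorElement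

/-- the image of a root under a word -/
def img (l : List (Fin chevD4.rank)) (r : ℕ) : ℕ := l.foldr (fun i j => chevD4.reflectRoot i.val j) r

theorem pw_img (l : List (Fin chevD4.rank)) (r : Fin chevD4.nroots) : (C.G.pw l r).val = img l r.val := by
  induction l with
  | nil => rfl
  | cons i l ih =>
    rw [C.G.pw_cons, Equiv.Perm.mul_apply, C.G.sP_apply, ← C.G.reflect_eq, ih]
    rfl

/-- the word of the central node -/
def s6 : List (Fin chevD4.rank) := [nd 1]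

/-- the word of the orbit of three nodes -/
def s7 : List (Fin chevD4.rank) := [nd 0, nd 2, nd 3]

variable {K : Type*} [Field K] (θ : K ≃+* K)

local notation "G" => GL chevD4.Idx K

/-- the monomial element of the orbit of three nodes -/
noncomputable def n7 : GL chevD4.Idx K := hB θ (nS K)

/-- the monomial element of the central node -/
noncomputable def n6 : GL chevD4.Idx K := gl θ (nS (Fx θ))

/-- a composite monomial element -/
noncomputable def hh : GL chevD4.Idx K := n7 θ * n6 θ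

/-- the monomial element of the short root orthogonal to the central node -/
noncomputable def n9 : GL chevD4.Idx K := hh θ * n7 θ * (hh θ)⁻¹

/-- the monomial element of a long root -/
noncomputable def n10 : GL chevD4.Idx K := hh θ * n6 θ * (hh θ)⁻¹

/-- the monomial element of the highest root -/
noncomputable def n23 : GL chevD4.Idx K := n6 θ * n10 θ * (n6 θ)⁻¹

theorem n7_eq : n7 θ = C.G.nU (nd 0) * C.G.nU (nd 2) * C.G.nU (nd 3) := by
  have e : sMap θ (nS K) = nS K := Subtype.ext (by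
    ext i j; rw [sMap_apply]; fin_cases i <;> fin_cases j <;> simp [nS])
  obtain ⟨s0, -, s2, s3⟩ := TD4.simp_rt
  show rH _ _ * rH _ _ * rH _ _ = _
  rw [e, e, rH_nS, rH_nS, rH_nS, ← s0, ← s2, ← s3]
  simp [Good.nU, Good.nE]

theorem n6_eq : n6 θ = C.G.nU (nd 1) := gl_nS θ

/-- a monomial element of the twisted group with the permutation of a word -/
def Mon (n : G) (l : List (Fin chevD4.rank)) : Prop :=
  n ∈ (TD4.twist θ).Fix ∧ n ∈ chevD4.monomialSubgroup K ∧ C.G.NPerm n (C.G.pw l)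

theorem Mon.mul {n n' : G} {l l' : List (Fin chevD4.rank)} (h : Mon θ n l) (h' : Mon θ n' l') :
    Mon θ (n * n') (l ++ l') :=
  ⟨mul_mem h.1 h'.1, mul_mem h.2.1 h'.2.1, by rw [C.G.pw_append]; exact Good.NPerm.mul C.G h.2.2 h'.2.2⟩

theorem pw_reverse (l : List (Fin chevD4.rank)) : C.G.pw l.reverse = (C.G.pw l)⁻¹ := by
  induction l with
  | nil => rw [List.reverse_nil, C.G.pw_nil, inv_one]
  | cons i l ih =>
    rw [List.reverse_cons, C.G.pw_append, ih, C.G.pw_single, C.G.pw_cons, _root_.mul_inv_rev]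
    congr 1

theorem Mon.inv {n : G} {l : List (Fin chevD4.rank)} (h : Mon θ n l) : Mon θ n⁻¹ l.reverse :=
  ⟨inv_mem h.1, inv_mem h.2.1, by rw [pw_reverse]; exact Good.NPerm.inv C.G h.2.2⟩

variable (h3 : ∀ t : K, θ (θ (θ t)) = t)

include h3

theorem mon_n7 {q : ℕ} (hθ : ∀ x, θ x = x ^ q) : Mon θ (n7 θ) s7 := by
  refine ⟨(Mult.TD4Data.mem_iff θ hθ h3).1 (hB_mem θ h3 hθ _), ?_, ?_⟩
  · rw [n7_eq]
    exact mul_mem (mul_mem (C.G.nU_mem_monomial _) (C.G.nU_mem_monomial _)) (C.G.nU_mem_monomial _)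
  · rw [n7_eq, s7, C.G.pw_cons, C.G.pw_cons, C.G.pw_single, ← mul_assoc]
    exact Good.NPerm.mul C.G (Good.NPerm.mul C.G (C.G.nPerm_nU _) (C.G.nPerm_nU _)) (C.G.nPerm_nU _)

theorem mon_n6 {q : ℕ} (hθ : ∀ x, θ x = x ^ q) : Mon θ (n6 θ) s6 := by
  refine ⟨(Mult.TD4Data.mem_iff θ hθ h3).1 (gl_mem θ h3 hθ _), ?_, ?_⟩
  · rw [n6_eq]; exact C.G.nU_mem_monomial _
  · rw [n6_eq, s6, C.G.pw_single]; exact C.G.nPerm_nU _

theorem mon_hh {q : ℕ} (hθ : ∀ x, θ x = x ^ q) : Mon θ (hh θ) (s7 ++ s6) :=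
  (mon_n7 θ h3 hθ).mul θ (mon_n6 θ h3 hθ)

/-- the word of `n9` -/
def w9 : List (Fin chevD4.rank) := s7 ++ s6 ++ s7 ++ (s7 ++ s6).reverse

/-- the word of `n10` -/
def w10 : List (Fin chevD4.rank) := s7 ++ s6 ++ s6 ++ (s7 ++ s6).reverse

/-- the word of `n23` -/
def w23 : List (Fin chevD4.rank) := s6 ++ w10 ++ s6.reverse

theorem mon_n9 {q : ℕ} (hθ : ∀ x, θ x = x ^ q) : Mon θ (n9 θ) w9 :=
  ((mon_hh θ h3 hθ).mul θ (mon_n7 θ h3 hθ)).mul θ ((mon_hh θ h3 hθ).inv θ)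

theorem mon_n10 {q : ℕ} (hθ : ∀ x, θ x = x ^ q) : Mon θ (n10 θ) w10 :=
  ((mon_hh θ h3 hθ).mul θ (mon_n6 θ h3 hθ)).mul θ ((mon_hh θ h3 hθ).inv θ)

theorem mon_n23 {q : ℕ} (hθ : ∀ x, θ x = x ^ q) : Mon θ (n23 θ) w23 :=
  ((mon_n6 θ h3 hθ).mul θ (mon_n10 θ h3 hθ)).mul θ ((mon_n6 θ h3 hθ).inv θ)

omit h3 in
theorem conj_X {n : G} {l : List (Fin chevD4.rank)} (hn : C.G.NPerm n (C.G.pw l)) {r s : ℕ}
    (hr : r < chevD4.nroots) (hs : img l r = s) :
    ∃ k : Kˣ, ∀ t : K, n * (X r t : G) * n⁻¹ = X s ((k : K) * t) := by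
  obtain ⟨k, hk⟩ := hn ⟨r, hr⟩
  have e : (C.G.pw l ⟨r, hr⟩).val = s := (pw_img l _).trans hs
  refine ⟨k, fun t => ?_⟩
  rw [X_eq r hr, X_eq s (e ▸ (C.G.pw l ⟨r, hr⟩).isLt), hk]
  congr 1
  exact Fin.ext e

/-- a monomial element carries a fixed long root element to a fixed long root element -/
theorem conj_single {n : G} {l : List (Fin chevD4.rank)} (hn : Mon θ n l) {r s : ℕ}
    (hr : (r, r, false) ∈ ([(14, 14, false), (22, 22, false), (23, 23, false)] : List (ℕ × ℕ × Bool)))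
    (hs : (s, s, false) ∈ ([(14, 14, false), (22, 22, false), (23, 23, false)] : List (ℕ × ℕ × Bool)))
    (hi : img l r = s) {t : K} (ht : θ t = t) :
    ∃ t', θ t' = t' ∧ (t' = 0 → t = 0) ∧ n * (X r t : G) * n⁻¹ = X s t' := by
  have hr' : r < 24 := by simp at hr; omega
  have hs' : s < 24 := by simp at hs; omega
  obtain ⟨k, hk⟩ := conj_X hn.2.2 (rt_lt r hr') hi
  refine ⟨_, ?_, fun e => (mul_eq_zero.1 e).resolve_left k.ne_zero, hk t⟩
  have hmem : (X s ((k : K) * t) : G) ∈ (TD4.twist θ).Fix := by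
    rw [← hk t]
    exact mul_mem (mul_mem hn.1 (fix_single θ hr' hr ht)) (inv_mem hn.1)
  rw [X_eq s (rt_lt s hs')] at hmem
  have h := (TD4.twist θ).fix_list (l := [(⟨s, rt_lt s hs'⟩, (k : K) * t)]) (by simpa using hmem)
  simp only [List.map_cons, List.map_nil, List.prod_cons, List.prod_nil, mul_one] at h
  rw [twist_eval θ (rt_lt s hs') (rt_lt s hs') (tables (s, s, false) (by simp at hs ⊢; omega)), Bool.cond_false,
    X_eq s (rt_lt s hs')] at h
  exact C.G.xu_injective _ h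

omit h3 in
theorem commute_X {r s : ℕ} (h : s ≠ r ∧ s ≠ chevD4.neg r ∧ chevD4.commTerms r s = [])
    (hr : r < chevD4.nroots) (hs : s < chevD4.nroots) (t u : K) : Commute (X r t : G) (X s u) := by
  refine (Commute.symm ?_)
  show _ = _
  have e := swap_zero hr hs h.1 h.2.1 h.2.2 t u (1 : G)
  rwa [mul_one, mul_one] at e

/-- the products of three commuting root elements -/
def Tri (a b c : ℕ) : Set G := {g | ∃ t u v : K, g = X a t * X b u * X c v}

omit h3 in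
theorem tri_mul {a b c : ℕ} (hab : ∀ t u : K, Commute (X a t : G) (X b u))
    (hac : ∀ t u : K, Commute (X a t : G) (X c u)) (hbc : ∀ t u : K, Commute (X b t : G) (X c u)) {g g' : G}
    (hg : g ∈ Tri a b c) (hg' : g' ∈ Tri a b c) : g * g' ∈ Tri a b c := by
  obtain ⟨t, u, v, rfl⟩ := hg
  obtain ⟨t', u', v', rfl⟩ := hg'
  refine ⟨t + t', u + u', v + v', ?_⟩
  rw [X_add, X_add, X_add]
  calc (X a t : G) * X b u * X c v * (X a t' * X b u' * X c v')
      = X a t * X b u * (X c v * X a t') * X b u' * X c v' := by group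
    _ = X a t * (X b u * X a t') * (X c v * X b u') * X c v' := by rw [← (hac t' v).eq]; group
    _ = _ := by rw [← (hab t' u).eq, ← (hbc u' v).eq]; group

omit h3 in
theorem conj_tri {n : G} {l : List (Fin chevD4.rank)} (hn : Mon θ n l) {a b c a' b' c' : ℕ}
    (h : a < 24 ∧ b < 24 ∧ c < 24 ∧ a' < 24 ∧ b' < 24 ∧ c' < 24)
    (hab : a' < 24 → b' ≠ a' ∧ b' ≠ chevD4.neg a' ∧ chevD4.commTerms a' b' = [])
    (hac : a' < 24 → c' ≠ a' ∧ c' ≠ chevD4.neg a' ∧ chevD4.commTerms a' c' = [])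
    (hbc : b' < 24 → c' ≠ b' ∧ c' ≠ chevD4.neg b' ∧ chevD4.commTerms b' c' = [])
    (hi : ∀ r ∈ [a, b, c], img l r = a' ∨ img l r = b' ∨ img l r = c') (t u v : K) :
    n * (X a t * X b u * X c v) * n⁻¹ ∈ (Tri a' b' c' : Set G) := by
  obtain ⟨h1, h2, h3', h4, h5, h6⟩ := h
  have cab := fun t u : K => commute_X (hab h4) (rt_lt _ h4) (rt_lt _ h5) t u
  have cac := fun t u : K => commute_X (hac h4) (rt_lt _ h4) (rt_lt _ h6) t u
  have cbc := fun t u : K => commute_X (hbc h5) (rt_lt _ h5) (rt_lt _ h6) t u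
  have one : ∀ r ∈ [a, b, c], r < 24 → ∀ w : K, n * (X r w : G) * n⁻¹ ∈ (Tri a' b' c' : Set G) := by
    intro r hr hr24 w
    rcases hi r hr with e | e | e <;> obtain ⟨k, hk⟩ := conj_X hn.2.2 (rt_lt r hr24) e <;> rw [hk]
    · exact ⟨_, 0, 0, by rw [X_zero b', X_zero c', mul_one, mul_one]⟩
    · exact ⟨0, _, 0, by rw [X_zero a', X_zero c', one_mul, mul_one]⟩
    · exact ⟨0, 0, _, by rw [X_zero a', X_zero b', one_mul, one_mul]⟩
  rw [show n * (X a t * X b u * X c v) * n⁻¹ =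
    n * X a t * n⁻¹ * (n * X b u * n⁻¹) * (n * X c v * n⁻¹) by group]
  exact tri_mul cab cac cbc (tri_mul cab cac cbc (one a (by simp) h1 t) (one b (by simp) h2 u))
    (one c (by simp) h3' v)

omit h3 in
theorem sorted_inj {a b c : ℕ} (h : a < b ∧ b < c ∧ 12 ≤ a ∧ c < 24) {t u v t' u' v' : K}
    (e : (X a t : G) * (X b u * X c v) = X a t' * (X b u' * X c v')) : t = t' ∧ u = u' ∧ v = v' := by
  obtain ⟨h1, h2, h0, h4⟩ := h
  obtain ⟨e1, e2⟩ := lowest h0 (by omega)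
    (mul_mem (uge (by omega) (by omega) (by omega) _) (uge (by omega) (by omega) h4 _))
    (mul_mem (uge (by omega) (by omega) (by omega) _) (uge (by omega) (by omega) h4 _)) e
  obtain ⟨e3, e4⟩ := lowest (r := b) (by omega) (by omega) (uge (by omega) (by omega) h4 _)
    (uge (by omega) (by omega) h4 _) e2
  rw [X_eq c (rt_lt c h4), X_eq c (rt_lt c h4)] at e4
  exact ⟨e1, e3, C.G.xu_injective _ e4⟩

theorem tri_fixed {g : G} (hg : g ∈ (TD4.twist θ).Fix) :
    (g ∈ (Tri 18 13 12 : Set G) → ∃ z, g = rootB θ z) ∧ (g ∈ (Tri 19 16 15 : Set G) → ∃ z, g = rootC θ z) ∧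
      (g ∈ (Tri 21 17 20 : Set G) → ∃ z, g = rootD θ z) := by
  refine ⟨?_, ?_, ?_⟩ <;> rintro ⟨t, u, v, rfl⟩
  · have h := (TD4.twist θ).fix_list (l := [(⟨18, rt_lt 18 (by norm_num)⟩, t), (⟨13, rt_lt 13 (by norm_num)⟩, u),
      (⟨12, rt_lt 12 (by norm_num)⟩, v)]) (by
      rw [X_eq 18 (rt_lt 18 (by norm_num)), X_eq 13 (rt_lt 13 (by norm_num)), X_eq 12 (rt_lt 12 (by norm_num))] at hg
      simpa [mul_assoc] using hg)
    simp only [List.map_cons, List.map_nil, List.prod_cons, List.prod_nil, mul_one] at h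
    rw [twist_eval θ _ (rt_lt 13 (by norm_num)) (tables (18, 13, false) (by simp)),
      twist_eval θ _ (rt_lt 12 (by norm_num)) (tables (13, 12, false) (by simp)),
      twist_eval θ _ (rt_lt 18 (by norm_num)) (tables (12, 18, false) (by simp))] at h
    simp only [Bool.cond_false] at h
    rw [← X_eq 18 (rt_lt 18 (by norm_num)), ← X_eq 13 (rt_lt 13 (by norm_num)), ← X_eq 12 (rt_lt 12 (by norm_num))] at h
    have c1 := commute_X (K := K) (r := 18) (s := 13) (by decide +kernel) (by decide +kernel) (by decide +kernel)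
    have c2 := commute_X (K := K) (r := 18) (s := 12) (by decide +kernel) (by decide +kernel) (by decide +kernel)
    have c3 := commute_X (K := K) (r := 13) (s := 12) (by decide +kernel) (by decide +kernel) (by decide +kernel)
    have sort : ∀ x y z : K, (X 18 x : G) * (X 13 y * X 12 z) = X 12 z * (X 13 y * X 18 x) := fun x y z => by
      rw [(c3 y z).eq, ← mul_assoc, (c2 x z).eq, mul_assoc, (c1 x y).eq]
    have sort' : ∀ x y z : K, (X 13 x : G) * (X 12 y * X 18 z) = X 12 y * (X 13 x * X 18 z) := fun x y z => by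
      rw [← mul_assoc, (c3 x y).eq, mul_assoc]
    rw [sort, sort'] at h
    obtain ⟨e1, e2, -⟩ := sorted_inj (by norm_num) h
    refine ⟨t, ?_⟩
    rw [rootB, e2, e1]
  · have h := (TD4.twist θ).fix_list (l := [(⟨19, rt_lt 19 (by norm_num)⟩, t), (⟨16, rt_lt 16 (by norm_num)⟩, u),
      (⟨15, rt_lt 15 (by norm_num)⟩, v)]) (by
      rw [X_eq 19 (rt_lt 19 (by norm_num)), X_eq 16 (rt_lt 16 (by norm_num)), X_eq 15 (rt_lt 15 (by norm_num))] at hg
      simpa [mul_assoc] using hg)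
    simp only [List.map_cons, List.map_nil, List.prod_cons, List.prod_nil, mul_one] at h
    rw [twist_eval θ _ (rt_lt 16 (by norm_num)) (tables (19, 16, true) (by simp)),
      twist_eval θ _ (rt_lt 15 (by norm_num)) (tables (16, 15, false) (by simp)),
      twist_eval θ _ (rt_lt 19 (by norm_num)) (tables (15, 19, true) (by simp))] at h
    simp only [Bool.cond_false, Bool.cond_true] at h
    rw [← X_eq 19 (rt_lt 19 (by norm_num)), ← X_eq 16 (rt_lt 16 (by norm_num)), ← X_eq 15 (rt_lt 15 (by norm_num))] at h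
    have c1 := commute_X (K := K) (r := 19) (s := 16) (by decide +kernel) (by decide +kernel) (by decide +kernel)
    have c2 := commute_X (K := K) (r := 19) (s := 15) (by decide +kernel) (by decide +kernel) (by decide +kernel)
    have c3 := commute_X (K := K) (r := 16) (s := 15) (by decide +kernel) (by decide +kernel) (by decide +kernel)
    have sort : ∀ x y z : K, (X 19 x : G) * (X 16 y * X 15 z) = X 15 z * (X 16 y * X 19 x) := fun x y z => by
      rw [(c3 y z).eq, ← mul_assoc, (c2 x z).eq, mul_assoc, (c1 x y).eq]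
    have sort' : ∀ x y z : K, (X 16 x : G) * (X 15 y * X 19 z) = X 15 y * (X 16 x * X 19 z) := fun x y z => by
      rw [← mul_assoc, (c3 x y).eq, mul_assoc]
    rw [sort, sort'] at h
    obtain ⟨e1, e2, -⟩ := sorted_inj (by norm_num) h
    refine ⟨t, ?_⟩
    have hu : u = -θ t := e2.symm
    rw [rootC, ← e1, hu, map_neg]
  · have h := (TD4.twist θ).fix_list (l := [(⟨21, rt_lt 21 (by norm_num)⟩, t), (⟨17, rt_lt 17 (by norm_num)⟩, u),
      (⟨20, rt_lt 20 (by norm_num)⟩, v)]) (by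
      rw [X_eq 21 (rt_lt 21 (by norm_num)), X_eq 17 (rt_lt 17 (by norm_num)), X_eq 20 (rt_lt 20 (by norm_num))] at hg
      simpa [mul_assoc] using hg)
    simp only [List.map_cons, List.map_nil, List.prod_cons, List.prod_nil, mul_one] at h
    rw [twist_eval θ _ (rt_lt 17 (by norm_num)) (tables (21, 17, true) (by simp)),
      twist_eval θ _ (rt_lt 20 (by norm_num)) (tables (17, 20, true) (by simp)),
      twist_eval θ _ (rt_lt 21 (by norm_num)) (tables (20, 21, false) (by simp))] at h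
    simp only [Bool.cond_false, Bool.cond_true] at h
    rw [← X_eq 21 (rt_lt 21 (by norm_num)), ← X_eq 17 (rt_lt 17 (by norm_num)), ← X_eq 20 (rt_lt 20 (by norm_num))] at h
    have c1 := commute_X (K := K) (r := 21) (s := 17) (by decide +kernel) (by decide +kernel) (by decide +kernel)
    have c2 := commute_X (K := K) (r := 21) (s := 20) (by decide +kernel) (by decide +kernel) (by decide +kernel)
    have sort : ∀ x y z : K, (X 21 x : G) * (X 17 y * X 20 z) = X 17 y * (X 20 z * X 21 x) := fun x y z => by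
      rw [← mul_assoc, (c1 x y).eq, mul_assoc, (c2 x z).eq]
    rw [sort] at h
    obtain ⟨e1, e2, -⟩ := sorted_inj (by norm_num) h
    refine ⟨t, ?_⟩
    rw [rootD, ← e1, ← e2, ← e1, map_neg, neg_neg]

theorem conj_B {n : G} {l : List (Fin chevD4.rank)} (hn : Mon θ n l)
    (hi : ∀ r ∈ [18, 13, 12], img l r = 18 ∨ img l r = 13 ∨ img l r = 12) (z : K) :
    ∃ z', n * rootB θ z * n⁻¹ = rootB θ z' :=
  (tri_fixed θ h3 (mul_mem (mul_mem hn.1 (rootB_fix θ h3 z)) (inv_mem hn.1))).1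
    (conj_tri θ hn (by norm_num) (by decide +kernel) (by decide +kernel) (by decide +kernel) hi _ _ _)

theorem conj_B_C {n : G} {l : List (Fin chevD4.rank)} (hn : Mon θ n l)
    (hi : ∀ r ∈ [18, 13, 12], img l r = 19 ∨ img l r = 16 ∨ img l r = 15) (z : K) :
    ∃ z', n * rootB θ z * n⁻¹ = rootC θ z' :=
  (tri_fixed θ h3 (mul_mem (mul_mem hn.1 (rootB_fix θ h3 z)) (inv_mem hn.1))).2.1
    (conj_tri θ hn (by norm_num) (by decide +kernel) (by decide +kernel) (by decide +kernel) hi _ _ _)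

theorem conj_B_D {n : G} {l : List (Fin chevD4.rank)} (hn : Mon θ n l)
    (hi : ∀ r ∈ [18, 13, 12], img l r = 21 ∨ img l r = 17 ∨ img l r = 20) (z : K) :
    ∃ z', n * rootB θ z * n⁻¹ = rootD θ z' :=
  (tri_fixed θ h3 (mul_mem (mul_mem hn.1 (rootB_fix θ h3 z)) (inv_mem hn.1))).2.2
    (conj_tri θ hn (by norm_num) (by decide +kernel) (by decide +kernel) (by decide +kernel) hi _ _ _)

theorem conj_C_D {n : G} {l : List (Fin chevD4.rank)} (hn : Mon θ n l)
    (hi : ∀ r ∈ [19, 16, 15], img l r = 21 ∨ img l r = 17 ∨ img l r = 20) (z : K) :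
    ∃ z', n * rootC θ z * n⁻¹ = rootD θ z' :=
  (tri_fixed θ h3 (mul_mem (mul_mem hn.1 (rootC_fix θ h3 z)) (inv_mem hn.1))).2.2
    (conj_tri θ hn (by norm_num) (by decide +kernel) (by decide +kernel) (by decide +kernel) hi _ _ _)

theorem conj_D_B {n : G} {l : List (Fin chevD4.rank)} (hn : Mon θ n l)
    (hi : ∀ r ∈ [21, 17, 20], img l r = 18 ∨ img l r = 13 ∨ img l r = 12) (z : K) :
    ∃ z', n * rootD θ z * n⁻¹ = rootB θ z' :=
  (tri_fixed θ h3 (mul_mem (mul_mem hn.1 (rootD_fix θ h3 z)) (inv_mem hn.1))).1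
    (conj_tri θ hn (by norm_num) (by decide +kernel) (by decide +kernel) (by decide +kernel) hi _ _ _)

theorem conj_D_C {n : G} {l : List (Fin chevD4.rank)} (hn : Mon θ n l)
    (hi : ∀ r ∈ [21, 17, 20], img l r = 19 ∨ img l r = 16 ∨ img l r = 15) (z : K) :
    ∃ z', n * rootD θ z * n⁻¹ = rootC θ z' :=
  (tri_fixed θ h3 (mul_mem (mul_mem hn.1 (rootD_fix θ h3 z)) (inv_mem hn.1))).2.1
    (conj_tri θ hn (by norm_num) (by decide +kernel) (by decide +kernel) (by decide +kernel) hi _ _ _)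

/-! ### The parabolic subgroup -/

/-- moving a Levi element past the radical -/
theorem UP_mul_lv {u : G} (hu : u ∈ UP θ h3) (x : ↥(Lgp θ)) : ∃ u' ∈ UP θ h3, u * lv θ x = lv θ x * u' :=
  ⟨lv θ x⁻¹ * u * (lv θ x⁻¹)⁻¹, lv_conj_UP θ h3 x⁻¹ hu, by rw [map_inv]; group⟩

/-- the parabolic subgroup -/
noncomputable def PP : Subgroup (GL chevD4.Idx K) where
  carrier := {g | ∃ x : ↥(Lgp θ), ∃ u ∈ UP θ h3, g = lv θ x * u}
  one_mem' := ⟨1, 1, one_mem _, by rw [map_one, mul_one]⟩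
  mul_mem' := by
    rintro _ _ ⟨x, u, hu, rfl⟩ ⟨y, v, hv, rfl⟩
    obtain ⟨u', hu', e⟩ := UP_mul_lv θ h3 hu y
    exact ⟨x * y, u' * v, mul_mem hu' hv, by
      rw [map_mul, show lv θ x * u * (lv θ y * v) = lv θ x * (u * lv θ y) * v by group, e]; group⟩
  inv_mem' := by
    rintro _ ⟨x, u, hu, rfl⟩
    obtain ⟨u', hu', e⟩ := UP_mul_lv θ h3 (inv_mem hu) x⁻¹
    exact ⟨x⁻¹, u', hu', by rw [_root_.mul_inv_rev, ← map_inv, e]⟩

theorem mem_PP {g : G} : g ∈ PP θ h3 ↔ ∃ x : ↥(Lgp θ), ∃ u ∈ UP θ h3, g = lv θ x * u := Iff.rfl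

theorem lv_mem_PP (x : ↥(Lgp θ)) : lv θ x ∈ PP θ h3 := ⟨x, 1, one_mem _, by rw [mul_one]⟩

theorem UP_mem_PP {u : G} (hu : u ∈ UP θ h3) : u ∈ PP θ h3 := ⟨1, u, hu, by rw [map_one, one_mul]⟩

theorem gl_mem_PP (S : Matrix.SpecialLinearGroup (Fin 2) (Fx θ)) : gl θ S ∈ PP θ h3 :=
  lv_ofS θ S ▸ lv_mem_PP θ h3 _

/-- the torus element of the orbit of three nodes in the Levi subgroup -/
noncomputable def tEl (b : Kˣ) : ↥(Lgp θ) :=
  ⟨(Matrix.GeneralLinearGroup.mkOfDetNeZero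
      !![(⟨(N θ (b : K))⁻¹, by
        rw [mem_Fx, map_inv₀]
        simp only [N, map_mul, h3]
        congr 1
        ring⟩ : Fx θ), 0; 0, 1]
      (by
        have hb := b.ne_zero
        have hb1 : θ (b : K) ≠ 0 := fun e => hb (θ.injective (e.trans (map_zero θ).symm))
        have hb2 : θ (θ (b : K)) ≠ 0 := fun e => hb1 (θ.injective (e.trans (map_zero θ).symm))
        rw [Matrix.det_fin_two]
        simp [N, hb, hb1, hb2, Subtype.ext_iff]), b⁻¹), by
    show ((Matrix.det _ : Fx θ) : K) = _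
    simp [Matrix.det_fin_two, N]
    ring⟩

theorem lv_tEl (b : Kˣ) : lv θ (tEl θ h3 b) = T θ b := by
  have e : sOf (tEl θ h3 b).1.1 = 1 := by
    refine Subtype.ext ?_
    have hd := det_ne (tEl θ h3 b).1.1
    ext i j
    fin_cases i <;> fin_cases j <;> simp [sOf, tEl, Matrix.det_fin_two] at hd ⊢
    refine inv_mul_cancel₀ fun e => hd (Subtype.ext ?_)
    simp [e]
  rw [lv_apply, e, map_one, one_mul]
  show T θ (b⁻¹)⁻¹ = _
  rw [inv_inv]

theorem H_le_PP {g : G} (hg : g ∈ (TD4.twist θ).Fix ⊓ chevD4.diagonalSubgroup K) : g ∈ PP θ h3 := by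
  obtain ⟨c, rfl, hc⟩ := (TD4.twist θ).exists_fixed_tor_three hg (TD4.σT_three θ h3)
    fun z hz => TD4.ker_sq hz
  obtain ⟨f1, f2, f3⟩ := TD4.fixed_params θ hc
  let a : (Fx θ)ˣ := Units.mk0 ⟨(c (nd 1) : K), f1⟩ fun e => (c (nd 1)).ne_zero (congrArg Subtype.val e)
  have e : c = TD4.par θ (Units.map (Fx θ).subtype.toMonoidHom a * 1) (1 * c (nd 0)) := by
    rw [mul_one, one_mul]
    funext j
    have hi : ∀ i : Fin chevD4.rank, i = nd 0 ∨ i = nd 1 ∨ i = nd 2 ∨ i = nd 3 := by decide +kernel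
    have hne : (nd 0 : Fin chevD4.rank) ≠ nd 1 ∧ (nd 2 : Fin chevD4.rank) ≠ nd 1 ∧
        (nd 3 : Fin chevD4.rank) ≠ nd 1 ∧ (nd 2 : Fin chevD4.rank) ≠ nd 0 ∧
        (nd 3 : Fin chevD4.rank) ≠ nd 0 ∧ (nd 3 : Fin chevD4.rank) ≠ nd 2 := by decide +kernel
    obtain ⟨d1, d2, d3, d4, d5, d6⟩ := hne
    rcases hi j with rfl | rfl | rfl | rfl
    · simp [TD4.par, d1]
    · exact Units.ext (by simp [TD4.par, a])
    · exact Units.ext (by simp [TD4.par, d2, d4, f2])
    · exact Units.ext (by simp [TD4.par, d3, d5, d6, f3])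
  rw [e, par_mul, map_mul, ← gl_dS, ← T_eq, ← lv_tEl θ h3]
  exact mul_mem (gl_mem_PP θ h3 _) (lv_mem_PP θ h3 _)

open Classical in
/-- every positive unipotent fixed element lies in the parabolic subgroup -/
theorem U_le_PP [Fintype K] {q : ℕ} (hθ : ∀ x, θ x = x ^ q) (hq : IsPrimePow q) (hK : Fintype.card K = q ^ 3)
    {g : G} (hg : g ∈ (TD4.twist θ).Fix ⊓ chevD4.posUnipotent K) : g ∈ PP θ h3 := by
  obtain ⟨-, hU, -, -, -⟩ := TD4.summary hq hK
  rw [show twistedD4 K q = (TD4.twist θ).Fix from (TD4.twGp θ hθ h3).eq_Fix, inf_comm] at hU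
  let F0 := {w : K // θ w = w}
  have hF0 : Nat.card F0 = q := by
    rw [← Frob.card_fixed (K := K) hq hK]
    exact Nat.card_congr (Equiv.subtypeEquivRight fun x => by rw [hθ])
  have hmemU : ∀ {r : ℕ}, 12 ≤ r → r < 24 → ∀ t : K, (X r t : G) ∈ chevD4.posUnipotent K := fun h1 h2 t =>
    Mult.TD4Data.mem_U h1 h2 t
  let f : K × F0 × K × K × F0 × F0 → ↥((TD4.twist θ).Fix ⊓ chevD4.posUnipotent K) := fun x =>
    ⟨rootB θ x.1 * X 14 x.2.1.1 * rootC θ x.2.2.1 * rootD θ x.2.2.2.1 * X 22 x.2.2.2.2.1.1 * X 23 x.2.2.2.2.2.1,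
      Subgroup.mem_inf.2 ⟨mul_mem (mul_mem (mul_mem (mul_mem (mul_mem (rootB_fix θ h3 _)
        (fix_single θ (by norm_num) (by simp) x.2.1.2)) (rootC_fix θ h3 _)) (rootD_fix θ h3 _))
        (fix_single θ (by norm_num) (by simp) x.2.2.2.2.1.2)) (fix_single θ (by norm_num) (by simp) x.2.2.2.2.2.2),
      by
        unfold rootB rootC rootD
        repeat' apply mul_mem
        all_goals exact hmemU (by norm_num) (by norm_num) _⟩⟩
  have hf : Function.Injective f := by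
    rintro ⟨r, ⟨w, hw⟩, c, d, ⟨e, he⟩, ⟨g, hg'⟩⟩ ⟨r', ⟨w', hw'⟩, c', d', ⟨e', he'⟩, ⟨g', hg''⟩⟩ h
    obtain ⟨rfl, rfl, rfl, rfl, rfl, rfl⟩ := unique_six θ (congrArg Subtype.val h)
    rfl
  have hcard : Nat.card (K × F0 × K × K × F0 × F0) = Nat.card ↥((TD4.twist θ).Fix ⊓ chevD4.posUnipotent K) := by
    rw [hU]
    simp only [Nat.card_prod, hF0, Nat.card_eq_fintype_card (α := K), hK]
    ring
  obtain ⟨⟨r, w, c, d, e, f'⟩, hx⟩ :=
    ((Nat.bijective_iff_injective_and_card f).2 ⟨hf, hcard⟩).2 ⟨g, hg⟩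
  have hg' : rootB θ r * X 14 w.1 * rootC θ c * rootD θ d * X 22 e.1 * X 23 f'.1 = g := congrArg Subtype.val hx
  rw [← hg']
  refine mul_mem (mul_mem (mul_mem (mul_mem (mul_mem (UP_mem_PP θ h3 (rootB_mem_UP θ h3 _)) ?_)
    (UP_mem_PP θ h3 (rootC_mem_UP θ h3 _))) (UP_mem_PP θ h3 (rootD_mem_UP θ h3 _)))
    (UP_mem_PP θ h3 (X22_mem_UP θ h3 e.2))) (UP_mem_PP θ h3 (X23_mem_UP θ h3 f'.2))
  have := gl_mem_PP θ h3 (Fam.upper (⟨w.1, w.2⟩ : Fx θ))
  rwa [gl_upper] at this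

/-! ### The opposite radical -/

/-- the opposite radical -/
noncomputable def VN : Subgroup (GL chevD4.Idx K) := (UP θ h3).map (MulAut.conj (n9 θ)).toMonoidHom

theorem mem_VN {v : G} : v ∈ VN θ h3 ↔ (n9 θ)⁻¹ * v * n9 θ ∈ UP θ h3 := by
  constructor
  · rintro ⟨u, hu, rfl⟩
    show (n9 θ)⁻¹ * (n9 θ * u * (n9 θ)⁻¹) * n9 θ ∈ _
    rw [show (n9 θ)⁻¹ * (n9 θ * u * (n9 θ)⁻¹) * n9 θ = u by group]
    exact hu
  · intro h
    refine ⟨_, h, ?_⟩
    show n9 θ * ((n9 θ)⁻¹ * v * n9 θ) * (n9 θ)⁻¹ = v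
    group

end CfsgLib.Lie.TD4Cover
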